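import Cfsg.Agent.Leech.Co0Std.DodData
import Cfsg.Agent.Golay.Action

/-!
Tables for the stabiliser of the dodecad: every functional of the code, even on the whole set and odd on the
dodecad, has more than twelve translates.
-/

set_option autoImplicit false

namespace Cfsg.Lib.Leech.Co0Std

open Cfsg Cfsg.Lib.Golay Cfsg.Lib.PermCert

theorem dodEls_ok : (dodEls.all fun a => preserves a && img a 340831 == 340831) = true := by decide +kernel

/-- The value on a word of the functional given by the values on the basis. -/
def chi (v i : ℕ) : Bool :=
  (List.range 12).foldr (fun k a => if i.testBit k then (v.testBit k).xor a else a) false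

/-- The parity of the low twelve bits. -/
def par (x : ℕ) : Bool :=
  let a := x ^^^ (x >>> 8)
  let b := a ^^^ (a >>> 4)
  let c := b ^^^ (b >>> 2)
  (c ^^^ (c >>> 1)) % 2 == 1

theorem par_table : ((List.range 4096).all fun x =>
    par x == (List.range 12).foldr (fun k a => (x.testBit k).xor a) false) = true := by decide +kernel

theorem chi_eq_par {v : ℕ} (hv : v < 4096) (i : ℕ) : chi v i = par (v &&& i) := by
  have h := List.all_eq_true.mp par_table (v &&& i)
    (List.mem_range.mpr (lt_of_le_of_lt Nat.and_le_left hv))
  rw [beq_iff_eq] at h
  rw [h, chi]
  refine List.foldr_ext _ _ _ fun k _ a => ?_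
  rw [Nat.testBit_and]
  cases v.testBit k <;> cases i.testBit k <;> simp

theorem dodImgs_ok : ((List.range dodEls.length).all fun t =>
    (dodImgs.getD t []) == rows.map fun r => img (dodEls[t]!) r % 4096) = true := by decide +kernel

/-- The number of distinct translates of a functional. -/
def translates (v : ℕ) : List ℕ :=
  (dodImgs.map fun l => l.foldr (fun i a => bif par (v &&& i) then 2 * a + 1 else 2 * a) 0).dedup

theorem translates_big : ((List.range 4096).all fun v =>
    par (v &&& 4095) || !par (v &&& 340831 % 4096) || Nat.blt 12 (translates v).length) = true := by decide +kernel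

end Cfsg.Lib.Leech.Co0Std
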