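import Cfsg.Agent.Leech.Co0Std.InvReduce
import Cfsg.Agent.Leech.Co0Std.DodTable
import Cfsg.Agent.Golay.DodecadStab
import Cfsg.Agent.S0383

/-!
The centraliser of the sign change on a dodecad is monomial and perfect; none of its automorphisms exchanges
that sign change with the negation, since the code has no orbit of twelve functionals with those values.
-/

set_option autoImplicit false
set_option linter.unusedSectionVars false

namespace Cfsg.Lib.Leech.Co0Std

open Cfsg Cfsg.Lib.Golay Cfsg.Lib.PermCert Finset MulAction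
open Cfsg.Lib.Leech.Co1Inv (mono_mul mono_congr mem_smul_iff mk_symmDiff)
open Cfsg.Lib.Leech.OutCo1 (dotInt_comm')
open scoped Pointwise commutatorElement

/-! ## The frame -/

/-- Supported on the set. -/
def SuppOn (d : Finset GolayPt) (v : leechLattice) : Prop := ∀ p, p ∉ d → (v : GolayPt → ℤ) p = 0

theorem suppOn_iff {d : Finset GolayPt} (hd : d ∈ code) (v : leechLattice) :
    SuppOn d v ↔ mono (one_mem M24) hd • v = -v := by
  constructor
  · intro h
    refine Subtype.ext (funext fun p => ?_)
    rw [mono_apply, AddSubgroup.coe_neg, Pi.neg_apply]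
    simp only [signedPerm, show (1 : Equiv.Perm GolayPt).symm p = p from rfl]
    split
    · rfl
    · rename_i hp; rw [h p hp, neg_zero]
  · intro h p hp
    have := congrFun (congrArg Subtype.val h) p
    rw [mono_apply, AddSubgroup.coe_neg, Pi.neg_apply] at this
    simp only [signedPerm, show (1 : Equiv.Perm GolayPt).symm p = p from rfl, if_neg hp] at this
    omega

theorem suppOn_smul {d : Finset GolayPt} (hd : d ∈ code) {h : Co0}
    (hc : h * mono (one_mem M24) hd = mono (one_mem M24) hd * h) {v : leechLattice} (hv : SuppOn d v) :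
    SuppOn d (h • v) := by
  rw [suppOn_iff hd, ← mul_smul, ← hc, mul_smul, (suppOn_iff hd v).mp hv, smul_neg']

theorem sub_dodecad {d c : Finset GolayPt} (hd : d ∈ dodecads) (hc : c ∈ code) (hs : c ⊆ d) : c = ∅ ∨ c = d := by
  have h1 := card_symmDiff_add (c := c) (d := d)
  rw [inter_eq_left.mpr hs, hd.2] at h1
  have hle := card_le_card hs
  rw [hd.2] at hle
  rcases card_support_mem hc with h | h | h | h | h
  · exact Or.inl (card_eq_zero.mp h)
  · exfalso
    rcases card_support_mem (symmDiff_mem_supports hc hd.1) with e | e | e | e | e <;> omega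
  · exact Or.inr (eq_of_subset_of_card_le hs (by rw [h, hd.2]))
  all_goals omega

theorem root_form {d : Finset GolayPt} (hd : d ∈ dodecads) {v : leechLattice} (hv : SuppOn d v)
    (hn : Cfsg.sqNorm (v : GolayPt → ℤ) = 32) :
    ∃ a b : GolayPt, a ≠ b ∧ a ∈ d ∧ b ∈ d ∧
      ((v : GolayPt → ℤ) a = 4 ∨ (v : GolayPt → ℤ) a = -4) ∧
      ((v : GolayPt → ℤ) b = 4 ∨ (v : GolayPt → ℤ) b = -4) ∧
      ∀ p, p ≠ a → p ≠ b → (v : GolayPt → ℤ) p = 0 := by
  set x : GolayPt → ℤ := (v : GolayPt → ℤ) with hxdef
  obtain ⟨o, ho⟩ : ∃ o, o ∉ d := by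
    by_contra h
    push Not at h
    have := card_le_card (show (univ : Finset GolayPt) ⊆ d from fun p _ => h p)
    rw [card_univ, Fintype.card_option, ZMod.card, hd.2] at this
    omega
  obtain ⟨m, c, z, hx⟩ := mem_lattice.mp v.2
  have hm : ∀ p, p ∉ d → m + 2 * indZ c p + 4 * z p = 0 := fun p hp => by rw [← hx.hx p]; exact hv p hp
  have hm2 : m % 2 = 0 := by have := hm o ho; unfold indZ at this; split at this <;> omega
  have h4 : ∀ p, x p % 4 = 0 := by
    rcases (show m % 4 = 0 ∨ m % 4 = 2 by omega) with h4 | h4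
    · have hs : c ⊆ d := fun p hp => by
        by_contra hpd
        have := hm p hpd
        simp only [indZ, if_pos hp] at this
        omega
      rcases sub_dodecad hd hx.hc hs with e | e
      · intro p; rw [show x p = _ from hx.hx p, e]; simp [indZ]; omega
      · exfalso
        have hge : ∀ p ∈ d, 4 ≤ x p ^ 2 := fun p hp => by
          have : x p % 4 = 2 := by
            rw [show x p = _ from hx.hx p, e]; simp [indZ, hp]; omega
          rcases (show x p ≥ 2 ∨ x p ≤ -2 by omega) with h' | h' <;> nlinarith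
        have h48 : (48 : ℤ) ≤ ∑ p ∈ d, x p ^ 2 := by
          have := sum_le_sum hge
          rw [sum_const, hd.2] at this
          simpa using this
        have := sum_le_sum_of_subset_of_nonneg (subset_univ d) fun p _ _ => sq_nonneg (x p)
        unfold Cfsg.sqNorm at hn
        omega
    · have hs : cᶜ ⊆ d := fun p hp => by
        by_contra hpd
        have := hm p hpd
        simp only [indZ, if_neg (mem_compl.mp hp)] at this
        omega
      rcases sub_dodecad hd (compl_mem_supports hx.hc) hs with e | e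
      · intro p
        have hp : p ∈ c := by
          by_contra h
          exact notMem_empty p (e ▸ mem_compl.mpr h)
        rw [show x p = _ from hx.hx p]; simp [indZ, hp]; omega
      · exfalso
        have hge : ∀ p ∈ d, 4 ≤ x p ^ 2 := fun p hp => by
          have hpc : p ∉ c := mem_compl.mp (e ▸ hp)
          have : x p % 4 = 2 := by
            rw [show x p = _ from hx.hx p]; simp [indZ, hpc]; omega
          rcases (show x p ≥ 2 ∨ x p ≤ -2 by omega) with h' | h' <;> nlinarith
        have h48 : (48 : ℤ) ≤ ∑ p ∈ d, x p ^ 2 := by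
          have := sum_le_sum hge
          rw [sum_const, hd.2] at this
          simpa using this
        have := sum_le_sum_of_subset_of_nonneg (subset_univ d) fun p _ _ => sq_nonneg (x p)
        unfold Cfsg.sqNorm at hn
        omega
  choose y hy using fun p => Int.dvd_of_emod_eq_zero (h4 p)
  have hy2 : ∑ p, y p ^ 2 = 2 := by
    have : ∑ p, x p ^ 2 = 16 * ∑ p, y p ^ 2 := by
      rw [mul_sum]; exact sum_congr rfl fun p _ => by rw [hy p]; ring
    unfold Cfsg.sqNorm at hn
    omega
  have hb : ∀ p, y p = 0 ∨ y p = 1 ∨ y p = -1 := fun p => by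
    have h1 := single_le_sum (fun q _ => sq_nonneg (y q)) (mem_univ p) (f := fun q => y q ^ 2)
    have : y p ^ 2 ≤ 2 := h1.trans_eq hy2
    have : -1 ≤ y p ∧ y p ≤ 1 := ⟨by nlinarith, by nlinarith⟩
    omega
  have hcard : (univ.filter fun p => y p ≠ 0).card = 2 := by
    have : ∑ p, y p ^ 2 = ((univ.filter fun p => y p ≠ 0).card : ℤ) := by
      rw [Finset.card_filter, Nat.cast_sum]
      exact sum_congr rfl fun p _ => by rcases hb p with h | h | h <;> simp [h]
    omega
  obtain ⟨a, b, hab, e⟩ := card_eq_two.mp hcard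
  have ha : y a ≠ 0 := (mem_filter.mp (e.symm ▸ mem_insert_self a {b} : a ∈ univ.filter fun p => y p ≠ 0)).2
  have hb' : y b ≠ 0 := (mem_filter.mp (e.symm ▸ mem_insert_of_mem (mem_singleton_self b) :
    b ∈ univ.filter fun p => y p ≠ 0)).2
  have hin : ∀ p, y p ≠ 0 → p ∈ d := fun p hp => by
    by_contra hpd
    have := hv p hpd
    have h' : x p = 0 := this
    have := hy p
    omega
  refine ⟨a, b, hab, hin a ha, hin b hb', ?_, ?_, fun p hpa hpb => ?_⟩
  · show x a = 4 ∨ x a = -4
    rw [hy a]; rcases hb a with h | h | h <;> omega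
  · show x b = 4 ∨ x b = -4
    rw [hy b]; rcases hb b with h | h | h <;> omega
  · show x p = 0
    rw [hy p]
    have : p ∉ univ.filter fun p => y p ≠ 0 := by rw [e]; simp [hpa, hpb]
    simp only [mem_filter, mem_univ, true_and, not_not] at this
    rw [this, mul_zero]

/-- Four at two points, with a sign at the second. -/
def rootVec (i j : GolayPt) (s : ℤ) : GolayPt → ℤ := fun p => 4 * ((if p = i then 1 else 0) + s * if p = j then 1 else 0)

theorem rootVec_mem (i j : GolayPt) {s : ℤ} (hs : s = 1 ∨ s = -1) : rootVec i j s ∈ leechLattice :=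
  mem_lattice.mpr ⟨0, ∅, fun p => (if p = i then 1 else 0) + s * if p = j then 1 else 0, empty_mem_code,
    fun p => by simp [rootVec, indZ], by
      rw [sum_add_distrib, ← mul_sum, sum_ite_eq', sum_ite_eq']
      rcases hs with rfl | rfl <;> simp⟩

/-- The vector in the lattice. -/
noncomputable def rootL (i j : GolayPt) {s : ℤ} (hs : s = 1 ∨ s = -1) : leechLattice := ⟨_, rootVec_mem i j hs⟩

theorem rootL_supp {d : Finset GolayPt} {i j : GolayPt} (hi : i ∈ d) (hj : j ∈ d) {s : ℤ} (hs : s = 1 ∨ s = -1) :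
    SuppOn d (rootL i j hs) := fun p hp => by
  simp [rootL, rootVec, show p ≠ i from fun e => hp (e ▸ hi), show p ≠ j from fun e => hp (e ▸ hj)]

theorem dot_root (x : GolayPt → ℤ) (i j : GolayPt) {s : ℤ} (hs : s = 1 ∨ s = -1) :
    dotInt x (rootL i j hs : GolayPt → ℤ) = 4 * x i + 4 * s * x j := by
  simp only [dotInt, rootL, rootVec, mul_add, sum_add_distrib]
  simp [mul_comm, mul_left_comm]

theorem sqNorm_root {i j : GolayPt} (hij : i ≠ j) {s : ℤ} (hs : s = 1 ∨ s = -1) :
    Cfsg.sqNorm (rootL i j hs : GolayPt → ℤ) = 32 := by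
  have h : dotInt (rootL i j hs : GolayPt → ℤ) (rootL i j hs : GolayPt → ℤ) = 32 := by
    rw [dot_root]
    rcases hs with rfl | rfl <;> simp [rootL, rootVec, hij, Ne.symm hij]
  rw [← h]
  exact sum_congr rfl fun p _ => by ring

theorem frame_on {d : Finset GolayPt} (hd : d ∈ dodecads) {h : Co0}
    (hc : h * mono (one_mem M24) hd.1 = mono (one_mem M24) hd.1 * h) {i : GolayPt} (hi : i ∈ d) :
    ((h • e8 i : leechLattice) : GolayPt → ℤ) ∈ stdCross := by
  obtain ⟨j, hj, hji⟩ := exists_mem_ne (show 1 < d.card by rw [hd.2]; norm_num) i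
  have hp : (1 : ℤ) = 1 ∨ (1 : ℤ) = -1 := Or.inl rfl
  have hm : (-1 : ℤ) = 1 ∨ (-1 : ℤ) = -1 := Or.inr rfl
  set r := rootL i j hp
  set r' := rootL i j hm
  have hsum : r + r' = e8 i := Subtype.ext (funext fun p => by
    simp only [r, r', rootL, rootVec, AddSubgroup.coe_add, Pi.add_apply, e8, Pi.single_apply]
    split <;> split <;> simp_all)
  have hR := suppOn_smul hd.1 hc (rootL_supp hi hj hp)
  have hR' := suppOn_smul hd.1 hc (rootL_supp hi hj hm)
  have hn : ∀ v : leechLattice, Cfsg.sqNorm ((h • v : leechLattice) : GolayPt → ℤ) = Cfsg.sqNorm (v : GolayPt → ℤ) :=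
    fun v => h.2.2 v
  obtain ⟨a, b, hab, had, hbd, va, vb, vz⟩ := root_form hd hR ((hn _).trans (sqNorm_root hji.symm hp))
  obtain ⟨a', b', hab', had', hbd', va', vb', vz'⟩ := root_form hd hR' ((hn _).trans (sqNorm_root hji.symm hm))
  set R : GolayPt → ℤ := ((h • r : leechLattice) : GolayPt → ℤ) with hRdef
  set R' : GolayPt → ℤ := ((h • r' : leechLattice) : GolayPt → ℤ) with hR'def
  have horth : dotInt R R' = 0 := by
    rw [hRdef, hR'def, dot_smul, dot_root]
    simp [r, rootL, rootVec, hji, hji.symm]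
  have hdot : dotInt R R' = R a * R' a + R b * R' b := by
    rw [dotInt, ← sum_subset (subset_univ ({a, b} : Finset GolayPt)) fun p _ hp => by
      simp only [mem_insert, mem_singleton, not_or] at hp
      rw [vz p hp.1 hp.2, zero_mul], sum_pair hab]
  rw [← hsum, show h • (r + r') = h • r + h • r' from (toHom h).map_add r r']
  by_cases hsame : (∀ p, R p = 0 → R' p = 0) ∧ ∀ p, R' p = 0 → R p = 0
  · have hz : ∀ p, p ≠ a → p ≠ b → R' p = 0 := fun p h1 h2 => hsame.1 p (vz p h1 h2)
    have hne : R' a ≠ 0 ∧ R' b ≠ 0 :=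
      ⟨fun e => by have := hsame.2 a e; omega, fun e => by have := hsame.2 b e; omega⟩
    have h44 : ∀ p, R' p = 4 ∨ R' p = -4 ∨ R' p = 0 := fun p => by
      by_cases h1 : p = a'
      · subst h1; omega
      by_cases h2 : p = b'
      · subst h2; omega
      exact Or.inr (Or.inr (vz' p h1 h2))
    rw [horth] at hdot
    have h1 := h44 a
    have h2 := h44 b
    have hcase : (R' a = R a ∧ R' b = -R b) ∨ (R' a = -R a ∧ R' b = R b) := by
      rcases va with va | va <;> rcases vb with vb | vb <;> rw [va, vb] at hdot ⊢ <;> omega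
    rw [stdCross_eq_e8]
    rcases hcase with ⟨e1, e2⟩ | ⟨e1, e2⟩
    · refine ⟨a, ?_⟩
      rcases va with va | va
      · left; funext p; show R p + R' p = _
        simp only [e8, Pi.single_apply]
        split
        · subst_vars; omega
        · rename_i hpa
          by_cases hpb : p = b
          · subst hpb; omega
          · rw [vz p hpa hpb, hz p hpa hpb]; rfl
      · right; funext p; show R p + R' p = _
        simp only [Pi.neg_apply, e8, Pi.single_apply]
        split
        · subst_vars; omega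
        · rename_i hpa
          by_cases hpb : p = b
          · subst hpb; omega
          · rw [vz p hpa hpb, hz p hpa hpb]; rfl
    · refine ⟨b, ?_⟩
      rcases vb with vb | vb
      · left; funext p; show R p + R' p = _
        simp only [e8, Pi.single_apply]
        split
        · subst_vars; omega
        · rename_i hpb
          by_cases hpa : p = a
          · subst hpa; omega
          · rw [vz p hpa hpb, hz p hpa hpb]; rfl
      · right; funext p; show R p + R' p = _
        simp only [Pi.neg_apply, e8, Pi.single_apply]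
        split
        · subst_vars; omega
        · rename_i hpb
          by_cases hpa : p = a
          · subst hpa; omega
          · rw [vz p hpa hpb, hz p hpa hpb]; rfl
  · exfalso
    obtain ⟨k, hk, hk'⟩ : ∃ k, R k ≠ 0 ∧ R' k = 0 := by
      by_contra hall
      push Not at hall
      have ha := hall a (by omega)
      have hb := hall b (by omega)
      refine hsame ⟨fun p hp => ?_, fun p hp => by by_contra h0; exact hall p h0 hp⟩
      by_contra h0
      have hp2 : p = a' ∨ p = b' := by
        by_contra h; push Not at h; exact h0 (vz' p h.1 h.2)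
      have ha2 : a = a' ∨ a = b' := by
        by_contra h; push Not at h; exact ha (vz' a h.1 h.2)
      have hb2 : b = a' ∨ b = b' := by
        by_contra h; push Not at h; exact hb (vz' b h.1 h.2)
      have hpa : p ≠ a := fun e => by subst e; omega
      have hpb : p ≠ b := fun e => by subst e; omega
      rcases hp2 with rfl | rfl <;> rcases ha2 with rfl | rfl <;> rcases hb2 with rfl | rfl <;>
        first | exact hab rfl | exact hpa rfl | exact hpb rfl
    obtain ⟨f, hf, hfn⟩ := exists_mem_notMem_of_card_lt_card (s := {a, b, a', b'}) (t := d)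
      (lt_of_le_of_lt (card_le_four) (by rw [hd.2]; norm_num))
    simp only [mem_insert, mem_singleton, not_or] at hfn
    have hfR : R f = 0 := vz f hfn.1 hfn.2.1
    have hfR' : R' f = 0 := vz' f hfn.2.2.1 hfn.2.2.2
    have hkd : k ∈ d := by
      by_contra h; exact hk (hR k h)
    have hkf : k ≠ f := fun e => hk (e ▸ hfR)
    set s := rootL k f hp
    set s0 := h⁻¹ • s
    have hinv : h⁻¹ * mono (one_mem M24) hd.1 = mono (one_mem M24) hd.1 * h⁻¹ := by
      rw [inv_mul_eq_iff_eq_mul, ← mul_assoc, hc, mul_inv_cancel_right]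
    have hs0 := suppOn_smul hd.1 hinv (rootL_supp hkd hf hp)
    have hh : h • s0 = s := smul_inv_smul h s
    obtain ⟨u, w, huw, -, -, wu, ww, wz⟩ := root_form hd hs0 (by
      rw [show Cfsg.sqNorm ((h⁻¹ • s : leechLattice) : GolayPt → ℤ) = _ from (h⁻¹).2.2 s]
      exact sqNorm_root hkf hp)
    have e1 : 4 * (s0 : GolayPt → ℤ) i + 4 * 1 * (s0 : GolayPt → ℤ) j = 4 * R k + 4 * 1 * R f := by
      rw [← dot_root _ i j hp, ← dot_smul h, hh, dotInt_comm', dot_root]
    have e2 : 4 * (s0 : GolayPt → ℤ) i + 4 * (-1) * (s0 : GolayPt → ℤ) j = 4 * R' k + 4 * 1 * R' f := by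
      rw [← dot_root _ i j hm, ← dot_smul h, hh, dotInt_comm', dot_root]
    rw [hfR] at e1
    rw [hfR', hk'] at e2
    have wu' : (s0 : GolayPt → ℤ) u = 4 ∨ (s0 : GolayPt → ℤ) u = -4 := wu
    have ww' : (s0 : GolayPt → ℤ) w = 4 ∨ (s0 : GolayPt → ℤ) w = -4 := ww
    have hi0 : (s0 : GolayPt → ℤ) i ≠ 0 := by omega
    have hj0 : (s0 : GolayPt → ℤ) j ≠ 0 := by omega
    have hiuw : i = u ∨ i = w := by
      by_contra h; push Not at h; exact hi0 (wz i h.1 h.2)
    have hjuw : j = u ∨ j = w := by
      by_contra h; push Not at h; exact hj0 (wz j h.1 h.2)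
    have hval : ((s0 : GolayPt → ℤ) i = 4 ∧ (s0 : GolayPt → ℤ) j = 4) ∨
        ((s0 : GolayPt → ℤ) i = -4 ∧ (s0 : GolayPt → ℤ) j = -4) := by
      rcases hiuw with rfl | rfl <;> rcases hjuw with rfl | rfl <;> first | exact absurd rfl hji | omega
    have hz0 : ∀ p, p ≠ i → p ≠ j → (s0 : GolayPt → ℤ) p = 0 := fun p h1 h2 => by
      refine wz p (fun e => ?_) fun e => ?_ <;>
        rcases hiuw with rfl | rfl <;> rcases hjuw with rfl | rfl <;>
          first | exact h1 e | exact h2 e | exact hji rfl
    have hs0r : s0 = r ∨ s0 = -r := by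
      rcases hval with ⟨e, e'⟩ | ⟨e, e'⟩
      · left; refine Subtype.ext (funext fun p => ?_)
        simp only [r, rootL, rootVec]
        by_cases h1 : p = i
        · subst h1; simp [e, hji.symm]
        by_cases h2 : p = j
        · subst h2; simp [e', hji]
        simp [h1, h2, hz0 p h1 h2]
      · right; refine Subtype.ext (funext fun p => ?_)
        simp only [r, rootL, rootVec, AddSubgroup.coe_neg, Pi.neg_apply]
        by_cases h1 : p = i
        · subst h1; simp [e, hji.symm]
        by_cases h2 : p = j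
        · subst h2; simp [e', hji]
        simp [h1, h2, hz0 p h1 h2]
    have hsf : (s : GolayPt → ℤ) f = 4 := by simp [s, rootL, rootVec, hkf.symm]
    rcases hs0r with e | e
    · rw [← hh, e, ← hRdef, hfR] at hsf
      omega
    · rw [← hh, e, smul_neg', AddSubgroup.coe_neg, Pi.neg_apply, ← hRdef, hfR] at hsf
      omega

/-! ## The centraliser -/

/-- The centraliser. -/
abbrev CD : Subgroup Co0 := Subgroup.centralizer ({gD} : Set Co0)

/-- The stabiliser of the dodecad. -/
abbrev SD : Subgroup (Equiv.Perm GolayPt) := setStab dod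

theorem compl_dodecad : dodᶜ ∈ dodecads :=
  ⟨compl_mem_supports dod_code, by rw [card_compl, dod_card, Fintype.card_option, ZMod.card]⟩

theorem fixesFrame_of_mem {h : Co0} (hh : h ∈ CD) : FixesFrame h := by
  have hc : h * gD = gD * h := Subgroup.mem_centralizer_singleton_iff.mp hh
  have hc' : h * mono (one_mem M24) compl_dodecad.1 = mono (one_mem M24) compl_dodecad.1 * h := by
    rw [show mono (one_mem M24) compl_dodecad.1 = gD * negOne by
      rw [← flip_univ univ_mem_code, gD, flip_mul]; exact flip_congr (by ext p; simp [mem_symmDiff]),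
      ← mul_assoc, hc, mul_assoc, mul_assoc, negOne_comm]
  intro v hv
  obtain ⟨i, hi⟩ := stdCross_eq_e8.mp hv
  have hfr : ((h • e8 i : leechLattice) : GolayPt → ℤ) ∈ stdCross := by
    by_cases hid : i ∈ dod
    · exact frame_on dod_dodecads hc hid
    · exact frame_on compl_dodecad hc' (mem_compl.mpr hid)
  rcases hi with hi | hi
  · rwa [show v = e8 i from Subtype.ext hi]
  · rw [show v = -e8 i from Subtype.ext hi, smul_neg']
    obtain ⟨j, hj | hj⟩ := stdCross_eq_e8.mp hfr
    · exact stdCross_eq_e8.mpr ⟨j, Or.inr (by rw [AddSubgroup.coe_neg, hj])⟩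
    · exact stdCross_eq_e8.mpr ⟨j, Or.inl (by rw [AddSubgroup.coe_neg, hj]; simp)⟩

theorem mono_mem_CD {σ : Equiv.Perm GolayPt} {c : Finset GolayPt} (hσ : σ ∈ M24) (hc : c ∈ code)
    (h : σ • dod = dod) : mono hσ hc ∈ CD := by
  rw [Subgroup.mem_centralizer_singleton_iff, gD, mono_mul, mono_mul]
  refine mono_congr _ _ _ _ (by rw [mul_one, one_mul]) ?_
  rw [h, one_smul, symmDiff_comm]

/-- A monomial element of the centraliser. -/
noncomputable def monoD (σ : SD) {c : Finset GolayPt} (hc : c ∈ code) : CD :=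
  ⟨mono σ.2.1 hc, mono_mem_CD σ.2.1 hc σ.2.2⟩

theorem monoD_surj (h : CD) : ∃ (σ : SD) (c : Finset GolayPt) (hc : c ∈ code), h = monoD σ hc := by
  obtain ⟨σ, c, hσ, hc, e⟩ := frame_is_monomial (fixesFrame_of_mem h.2)
  have h' := Subgroup.mem_centralizer_singleton_iff.mp h.2
  rw [e, gD, mono_mul, mono_mul] at h'
  have hs := (mono_injective _ _ _ _ h').2
  rw [one_smul, symmDiff_comm dod c] at hs
  exact ⟨⟨σ, hσ, symmDiff_right_injective c hs⟩, c, hc, Subtype.ext e⟩

theorem monoD_inj {σ τ : SD} {c d : Finset GolayPt} {hc : c ∈ code} {hd : d ∈ code}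
    (h : monoD σ hc = monoD τ hd) : σ = τ ∧ c = d := by
  obtain ⟨h1, h2⟩ := mono_injective _ _ _ _ (congrArg Subtype.val h)
  exact ⟨Subtype.ext h1, h2⟩

theorem monoD_mul (σ τ : SD) {c d : Finset GolayPt} (hc : c ∈ code) (hd : d ∈ code) :
    monoD σ hc * monoD τ hd = monoD (σ * τ) (symmDiff_mem_supports hc (smul_mem_code σ.2.1 hd)) :=
  Subtype.ext (mono_mul _ _ _ _)

theorem monoD_congr {σ τ : SD} {c d : Finset GolayPt} (hc : c ∈ code) (hd : d ∈ code) (h1 : σ = τ) (h2 : c = d) :
    monoD σ hc = monoD τ hd := by subst h1 h2; rfl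

theorem monoD_one : monoD 1 empty_mem_code = 1 := Subtype.ext flip_empty

theorem card_CD : Nat.card CD = 4096 * 95040 := by
  rw [← card_code, ← card_setStab_dodecad dod_dodecads, ← Nat.card_prod]
  symm
  refine Nat.card_eq_of_bijective (fun x => monoD x.2 x.1.2) ⟨?_, fun h => ?_⟩
  · rintro ⟨⟨c, hc⟩, σ⟩ ⟨⟨d, hd⟩, τ⟩ e
    obtain ⟨rfl, rfl⟩ := monoD_inj e
    rfl
  · obtain ⟨σ, c, hc, rfl⟩ := monoD_surj h
    exact ⟨(⟨c, hc⟩, σ), rfl⟩

/-- The permutations alone. -/
noncomputable def permD : SD →* CD :=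
  MonoidHom.mk' (fun σ => monoD σ empty_mem_code) fun σ τ => by
    rw [monoD_mul]
    exact monoD_congr _ _ rfl (by simp)

theorem monoD_split (σ : SD) {c : Finset GolayPt} (hc : c ∈ code) :
    monoD σ hc = monoD 1 hc * permD σ := by
  rw [permD, MonoidHom.mk'_apply, monoD_mul]
  exact monoD_congr _ _ (one_mul σ).symm (by rw [OneMemClass.coe_one, one_smul]; simp [← bot_eq_empty])

theorem flipD_mul {c d : Finset GolayPt} (hc : c ∈ code) (hd : d ∈ code) :
    monoD 1 hc * monoD 1 hd = monoD 1 (symmDiff_mem_supports hc hd) := by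
  rw [monoD_mul]
  exact monoD_congr _ _ (one_mul 1) (by rw [OneMemClass.coe_one, one_smul])

theorem flipD_inv {c : Finset GolayPt} (hc : c ∈ code) : (monoD 1 hc)⁻¹ = monoD 1 hc := by
  refine inv_eq_of_mul_eq_one_right ?_
  rw [flipD_mul, monoD_congr _ empty_mem_code rfl (symmDiff_self _), monoD_one]

/-- The permutation part. -/
noncomputable def partD : CD →* SD :=
  MonoidHom.mk' (fun h => (monoD_surj h).choose) fun a b => by
    obtain ⟨c, hc, ea⟩ := (monoD_surj a).choose_spec
    obtain ⟨d, hd, eb⟩ := (monoD_surj b).choose_spec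
    obtain ⟨e, he, eab⟩ := (monoD_surj (a * b)).choose_spec
    have : monoD (monoD_surj (a * b)).choose he = monoD ((monoD_surj a).choose * (monoD_surj b).choose) _ :=
      eab.symm.trans ((congrArg₂ (· * ·) ea eb).trans (monoD_mul _ _ hc hd))
    exact (monoD_inj this).1

theorem partD_monoD (σ : SD) {c : Finset GolayPt} (hc : c ∈ code) : partD (monoD σ hc) = σ := by
  obtain ⟨d, hd, e⟩ := (monoD_surj (monoD σ hc)).choose_spec
  exact (monoD_inj e).1.symm

theorem partD_eq_one {h : CD} (hh : partD h = 1) : ∃ (c : Finset GolayPt) (hc : c ∈ code), h = monoD 1 hc := by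
  obtain ⟨σ, c, hc, rfl⟩ := monoD_surj h
  rw [partD_monoD] at hh
  exact ⟨c, hc, by rw [hh]⟩

theorem isSimple_SD : IsSimpleGroup SD := isSimple_M12

/-! ## Perfectness -/

theorem dod_mask : Golay.mk dod = 340831 := by decide +kernel

theorem stabD_of {a : PP} (ha : a ∈ dodEls) : ∃ σ : SD, valid 24 a = true ∧ (σ : Equiv.Perm GolayPt) = toP a := by
  have h := List.all_eq_true.mp dodEls_ok a ha
  simp only [Bool.and_eq_true, beq_iff_eq] at h
  have hv := valid_of_pres h.1
  exact ⟨⟨toP a, toP_mem_M24 h.1, mk_injective (by rw [mk_smul hv, dod_mask, h.2])⟩, hv, rfl⟩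

/-- The word of a commutator. -/
def dodWord (q : ℕ × ℕ) : ℕ := q.2 ^^^ img (dodEls[q.1]!) q.2

theorem dodSums_ok : (dodSums.length == 12 &&
    dodSums.all (fun L => L.all fun q => decide (q.1 < dodEls.length) && inCode q.2) &&
    (List.range 12).all fun k => (dodSums.getD k []).foldr (fun q x => dodWord q ^^^ x) 0 == rows.getD k 0) =
      true := by decide +kernel

theorem sum_mem : ∀ (L : List (ℕ × ℕ)), (∀ q ∈ L, q.1 < dodEls.length ∧ inCode q.2 = true) →
    L.foldr (fun q x => dodWord q ^^^ x) 0 < 2 ^ 24 ∧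
      ∃ hc : pts (L.foldr (fun q x => dodWord q ^^^ x) 0) ∈ code, monoD 1 hc ∈ commutator CD
  | [], _ => by
    have h0 : pts 0 = (∅ : Finset GolayPt) := by ext p; simp
    simp only [List.foldr_nil]
    refine ⟨by norm_num, h0 ▸ empty_mem_code, ?_⟩
    rw [monoD_congr (h0 ▸ empty_mem_code) empty_mem_code rfl h0, monoD_one]
    exact one_mem _
  | q :: L, hL => by
    obtain ⟨hlt, hc, hcm⟩ := sum_mem L fun r hr => hL r (List.mem_cons_of_mem q hr)
    obtain ⟨hq1, hq2⟩ := hL q List.mem_cons_self
    have hmem : dodEls[q.1]! ∈ dodEls := by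
      rw [getElem!_pos dodEls q.1 hq1]; exact List.getElem_mem _
    obtain ⟨σ, hv, e⟩ := stabD_of hmem
    have hc0 : pts q.2 ∈ code := mem_code_of hq2
    have hwlt : dodWord q < 2 ^ 24 := Nat.xor_lt_two_pow (lt_of_inCode hq2) (img_lt hv _)
    have he : symmDiff (pts q.2) ((σ : Equiv.Perm GolayPt) • pts q.2) = pts (dodWord q) := by
      rw [← pts_mk (symmDiff (pts q.2) _), mk_symmDiff, e, mk_smul hv, mk_pts (lt_of_inCode hq2)]
      rfl
    have hd : pts (dodWord q) ∈ code := he ▸ symmDiff_mem_supports hc0 (smul_mem_code σ.2.1 hc0)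
    have hdm : monoD 1 hd ∈ commutator CD := by
      have hm : monoD 1 hc0 * permD σ * (monoD 1 hc0)⁻¹ * (permD σ)⁻¹ ∈ commutator CD :=
        Subgroup.commutator_mem_commutator (Subgroup.mem_top _) (Subgroup.mem_top _)
      have hconj : permD σ * monoD 1 hc0 * (permD σ)⁻¹ = monoD 1 (smul_mem_code σ.2.1 hc0) := by
        rw [mul_inv_eq_iff_eq_mul, permD, MonoidHom.mk'_apply, monoD_mul, monoD_mul]
        exact monoD_congr _ _ (by rw [mul_one, one_mul]) (by simp [← bot_eq_empty])
      rw [show monoD 1 hc0 * permD σ * (monoD 1 hc0)⁻¹ * (permD σ)⁻¹ =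
        monoD 1 hc0 * (permD σ * monoD 1 hc0 * (permD σ)⁻¹)⁻¹ by group, hconj, flipD_inv, flipD_mul] at hm
      rwa [monoD_congr _ hd rfl he] at hm
    have e2 : symmDiff (pts (dodWord q)) (pts (L.foldr (fun q x => dodWord q ^^^ x) 0)) =
        pts (dodWord q ^^^ L.foldr (fun q x => dodWord q ^^^ x) 0) := by
      rw [← pts_mk (symmDiff (pts (dodWord q)) _), mk_symmDiff, mk_pts hwlt, mk_pts hlt]
    refine ⟨Nat.xor_lt_two_pow hwlt hlt, e2 ▸ symmDiff_mem_supports hd hc, ?_⟩
    have := mul_mem hdm hcm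
    rwa [flipD_mul, monoD_congr _ (e2 ▸ symmDiff_mem_supports hd hc) rfl e2] at this

theorem flip_xor_mem {r x : ℕ} (hr : r < 2 ^ 24) (hx : x < 2 ^ 24) (h' : pts r ∈ code) (h : pts x ∈ code)
    (hm' : monoD 1 h' ∈ commutator CD) (hm : monoD 1 h ∈ commutator CD) :
    r ^^^ x < 2 ^ 24 ∧ ∃ hh : pts (r ^^^ x) ∈ code, monoD 1 hh ∈ commutator CD := by
  have e2 : symmDiff (pts r) (pts x) = pts (r ^^^ x) := by
    rw [← pts_mk (symmDiff (pts r) _), mk_symmDiff, mk_pts hr, mk_pts hx]
  refine ⟨Nat.xor_lt_two_pow hr hx, e2 ▸ symmDiff_mem_supports h' h, ?_⟩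
  have := mul_mem hm' hm
  rwa [flipD_mul, monoD_congr _ (e2 ▸ symmDiff_mem_supports h' h) rfl e2] at this

theorem flip_comm_mem {c : Finset GolayPt} (hc : c ∈ code) : monoD 1 hc ∈ commutator CD := by
  have hd := dodSums_ok
  simp only [Bool.and_eq_true, beq_iff_eq, List.all_eq_true, decide_eq_true_eq] at hd
  obtain ⟨⟨hlen, hall⟩, hrow⟩ := hd
  have key : ∀ (i : ℕ) (l : List ℕ), (∀ k ∈ l, k < 12) →
      (l.foldr (fun k a => if i.testBit k then rows.getD k 0 ^^^ a else a) 0) < 2 ^ 24 ∧
      ∃ h : pts (l.foldr (fun k a => if i.testBit k then rows.getD k 0 ^^^ a else a) 0) ∈ code,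
        monoD 1 h ∈ commutator CD := by
    intro i l hl
    induction l with
    | nil =>
      have h0 : pts 0 = (∅ : Finset GolayPt) := by ext p; simp
      simp only [List.foldr_nil]
      refine ⟨by norm_num, h0 ▸ empty_mem_code, ?_⟩
      rw [monoD_congr (h0 ▸ empty_mem_code) empty_mem_code rfl h0, monoD_one]
      exact one_mem _
    | cons k l ih =>
      obtain ⟨hlt, h, hm⟩ := ih fun j hj => hl j (List.mem_cons_of_mem k hj)
      simp only [List.foldr_cons]
      by_cases hik : i.testBit k = true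
      swap
      · simp only [hik, Bool.false_eq_true, if_false]
        exact ⟨hlt, h, hm⟩
      · simp only [hik, if_true]
        have hk := hl k List.mem_cons_self
        have hs := sum_mem (dodSums.getD k []) fun q hq => by
          refine hall _ ?_ q hq
          rw [List.getD_eq_getElem _ _ (by omega)]
          exact List.getElem_mem _
        rw [hrow k (List.mem_range.mpr hk)] at hs
        obtain ⟨hlt', h', hm'⟩ := hs
        exact flip_xor_mem hlt' hlt h' h hm' hm
  obtain ⟨i, -, hi⟩ := List.mem_map.mp (mem_codeMasks.mpr ((mem_supports_iff _).mp hc))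
  obtain ⟨-, h, hm⟩ := key i (List.range 12) fun k hk => List.mem_range.mp hk
  rwa [monoD_congr h hc rfl (by rw [show List.foldr _ 0 (List.range 12) = Golay.mk c from hi, pts_mk])] at hm

theorem els_nonabelian : (dodEls.any fun a => !((List.range 24).all fun i => ap a.1 (ap a.1 i) == i)) = true := by
  decide +kernel

theorem exists_sq_ne : ∃ σ : SD, σ * σ ≠ 1 := by
  obtain ⟨a, ha, h⟩ := List.any_eq_true.mp els_nonabelian
  obtain ⟨σ, hv, e⟩ := stabD_of ha
  refine ⟨σ, fun h1 => ?_⟩
  simp only [Bool.not_eq_true', ← Bool.not_eq_true, List.all_eq_true, beq_iff_eq] at h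
  refine h fun i hi => ?_
  have := congrArg (fun x : SD => pidx ((x : Equiv.Perm GolayPt) (ptAt i))) h1
  simp only [Subgroup.coe_mul, e, Equiv.Perm.mul_apply, pidx_toP hv, OneMemClass.coe_one, Equiv.Perm.one_apply,
    show pidx (ptAt i) = i from pidx_ptAt ⟨i, List.mem_range.mp hi⟩] at this
  exact this

theorem commutator_SD : commutator SD = ⊤ := by
  have := isSimple_SD
  rcases (inferInstance : (commutator SD).Normal).eq_bot_or_eq_top with h | h
  · exfalso
    obtain ⟨σ, hσ⟩ := exists_sq_ne
    have hab : ∀ a b : SD, a * b = b * a := fun a b => by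
      have : ⁅a, b⁆ ∈ commutator SD :=
        Subgroup.commutator_mem_commutator (Subgroup.mem_top _) (Subgroup.mem_top _)
      rw [h, Subgroup.mem_bot, commutatorElement_eq_one_iff_mul_comm] at this
      exact this
    let _ : CommGroup SD := { (inferInstance : Group SD) with mul_comm := hab }
    have hp := (IsSimpleGroup.isCyclic : IsCyclic SD)
    have hc := IsSimpleGroup.prime_card (α := SD)
    rw [card_setStab_dodecad dod_dodecads] at hc
    exact absurd hc (by norm_num)
  · exact h

/-- The centraliser is perfect. -/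
theorem commutator_CD : commutator CD = ⊤ := by
  refine (Subgroup.eq_top_iff' _).mpr fun h => ?_
  obtain ⟨σ, c, hc, rfl⟩ := monoD_surj h
  rw [monoD_split]
  refine mul_mem (flip_comm_mem hc) ?_
  have := Subgroup.mem_map_of_mem permD (commutator_SD ▸ Subgroup.mem_top σ : σ ∈ commutator SD)
  rw [commutator_def, Subgroup.map_commutator] at this
  exact Subgroup.commutator_mono le_top le_top this

/-! ## No exchange -/

theorem part_flip (φ : CD ≃* CD) {c : Finset GolayPt} (hc : c ∈ code) : partD (φ (monoD 1 hc)) = 1 := by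
  have := isSimple_SD
  set F : Subgroup CD := partD.ker
  have hsur : Function.Surjective (partD.comp φ.toMonoidHom) := fun σ =>
    ⟨φ.symm (permD σ), by simp [permD, partD_monoD]⟩
  have hFn : (F.map (partD.comp φ.toMonoidHom)).Normal := Subgroup.Normal.map inferInstance _ hsur
  rcases hFn.eq_bot_or_eq_top with h | h
  · have hm : (partD.comp φ.toMonoidHom) (monoD 1 hc) ∈ F.map (partD.comp φ.toMonoidHom) :=
      Subgroup.mem_map_of_mem _ (MonoidHom.mem_ker.mpr (partD_monoD 1 hc))
    rw [h, Subgroup.mem_bot] at hm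
    exact hm
  · exfalso
    obtain ⟨σ, hσ⟩ := exists_sq_ne
    obtain ⟨x, hx, e⟩ : σ ∈ F.map (partD.comp φ.toMonoidHom) := h ▸ Subgroup.mem_top σ
    obtain ⟨d, hd, rfl⟩ := partD_eq_one (MonoidHom.mem_ker.mp hx)
    refine hσ ?_
    rw [← e, ← map_mul, flipD_mul, monoD_congr _ empty_mem_code rfl (symmDiff_self _), monoD_one, map_one]

/-- The words of the code. -/
abbrev Word := {c : Finset GolayPt // c ∈ code}

theorem no_swap_dod (φ : CD ≃* CD) (h1 : φ (monoD 1 dod_code) = monoD 1 univ_mem_code)
    (h2 : φ (monoD 1 univ_mem_code) = monoD 1 dod_code) : False := by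
  classical
  choose θ hθc hθ using fun c : Word => partD_eq_one (part_flip φ c.2)
  have hsd : ∀ a b : Word, θ ⟨_, symmDiff_mem_supports a.2 b.2⟩ = symmDiff (θ a) (θ b) := fun a b => by
    have e := hθ ⟨_, symmDiff_mem_supports a.2 b.2⟩
    rw [← flipD_mul a.2 b.2, map_mul, hθ a, hθ b, flipD_mul] at e
    exact (monoD_inj e).2.symm
  have hU : θ ⟨univ, univ_mem_code⟩ = dod := (monoD_inj ((hθ _).symm.trans h2)).2
  have hD : θ ⟨dod, dod_code⟩ = univ := (monoD_inj ((hθ _).symm.trans h1)).2
  obtain ⟨i, hi⟩ : ∃ i, i ∉ dod := by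
    by_contra h
    push Not at h
    have := card_le_card (show (univ : Finset GolayPt) ⊆ dod from fun p _ => h p)
    rw [card_univ, Fintype.card_option, ZMod.card, dod_card] at this
    omega
  let g : GolayPt → Word → Bool := fun p c => decide (p ∈ θ c)
  -- translates of the functional at a point off the dodecad are such functionals
  have htr : ∀ (σ : SD), ∃ p, p ∉ dod ∧ ∀ c : Word,
      g i ⟨_, smul_mem_code σ.2.1 c.2⟩ = g p c := by
    intro σ
    obtain ⟨τ, e, he, hτ⟩ := monoD_surj (φ (permD σ))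
    refine ⟨(τ : Equiv.Perm GolayPt).symm i, fun h => hi ?_, fun c => ?_⟩
    · have := mem_iff_of_smul_eq τ.2.2 ((τ : Equiv.Perm GolayPt).symm i)
      rw [Equiv.apply_symm_apply] at this
      exact this.mpr h
    · have hconj : permD σ * monoD 1 c.2 * (permD σ)⁻¹ = monoD 1 (smul_mem_code σ.2.1 c.2) := by
        rw [mul_inv_eq_iff_eq_mul, permD, MonoidHom.mk'_apply, monoD_mul, monoD_mul]
        exact monoD_congr _ _ (by rw [mul_one, one_mul]) (by simp [← bot_eq_empty])
      have h3 := congrArg φ hconj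
      rw [map_mul, map_mul, map_inv, hτ, hθ c, hθ ⟨_, smul_mem_code σ.2.1 c.2⟩, mul_inv_eq_iff_eq_mul,
        monoD_mul, monoD_mul] at h3
      have h4 := (monoD_inj h3).2
      rw [OneMemClass.coe_one, one_smul, symmDiff_comm _ e] at h4
      show decide _ = decide _
      rw [← symmDiff_right_injective e h4]
      simp only [mem_smul_iff]
  -- the functional by its values on the basis
  set v := Nat.ofBits fun k : Fin 12 => decide (∃ h : pts (rows.getD k 0) ∈ code, i ∈ θ ⟨_, h⟩) with hv
  have hrows : ∀ k < 12, inCode (rows.getD k 0) = true := by decide +kernel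
  have hvk : ∀ k (hk : k < 12) (h : pts (rows.getD k 0) ∈ code), v.testBit k = g i ⟨_, h⟩ := fun k hk h => by
    rw [hv, Nat.testBit_ofBits_lt _ k hk]
    exact decide_eq_decide.mpr ⟨fun ⟨_, h'⟩ => h', fun h' => ⟨h, h'⟩⟩
  have hempty : θ ⟨∅, empty_mem_code⟩ = ∅ :=
    (monoD_inj ((hθ _).symm.trans ((congrArg φ monoD_one).trans ((map_one φ).trans monoD_one.symm)))).2
  have gx : ∀ r x : ℕ, r < 2 ^ 24 → x < 2 ^ 24 → ∀ (hr : pts r ∈ code) (hx : pts x ∈ code),
      ∃ h : pts (r ^^^ x) ∈ code, Bool.xor (g i ⟨_, hr⟩) (g i ⟨_, hx⟩) = g i ⟨_, h⟩ := by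
    intro r x hrl hxl hr hx
    have e2 : symmDiff (pts r) (pts x) = pts (r ^^^ x) := by
      rw [← pts_mk (symmDiff (pts r) _), mk_symmDiff, mk_pts hrl, mk_pts hxl]
    refine ⟨e2 ▸ symmDiff_mem_supports hr hx, ?_⟩
    show Bool.xor (decide _) (decide _) = decide _
    rw [show (⟨pts (r ^^^ x), e2 ▸ symmDiff_mem_supports hr hx⟩ : Word) =
      ⟨_, symmDiff_mem_supports hr hx⟩ from Subtype.ext e2.symm, hsd ⟨_, hr⟩ ⟨_, hx⟩]
    by_cases a : i ∈ θ ⟨pts r, hr⟩ <;> by_cases b : i ∈ θ ⟨pts x, hx⟩ <;> simp [mem_symmDiff, a, b]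
  have hchi : ∀ (m : ℕ) (hm : inCode m = true), chi v (m % 4096) = g i ⟨_, mem_code_of hm⟩ := by
    intro m hm
    have key : ∀ (l : List ℕ), (∀ k ∈ l, k < 12) → ∀ j : ℕ,
        (l.foldr (fun k a => if j.testBit k then rows.getD k 0 ^^^ a else a) 0) < 2 ^ 24 ∧
        ∃ h : pts (l.foldr (fun k a => if j.testBit k then rows.getD k 0 ^^^ a else a) 0) ∈ code,
        l.foldr (fun k a => if j.testBit k then (v.testBit k).xor a else a) false = g i ⟨_, h⟩ := by
      intro l hl j
      induction l with
      | nil =>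
        have h0 : pts 0 = (∅ : Finset GolayPt) := by ext p; simp
        simp only [List.foldr_nil]
        refine ⟨by norm_num, h0 ▸ empty_mem_code, ?_⟩
        show false = decide (i ∈ θ ⟨pts 0, _⟩)
        rw [show (⟨pts 0, h0 ▸ empty_mem_code⟩ : Word) = ⟨∅, empty_mem_code⟩ from Subtype.ext h0, hempty]
        simp
      | cons k l ih =>
        obtain ⟨hlt, h, hb⟩ := ih fun q hq => hl q (List.mem_cons_of_mem k hq)
        simp only [List.foldr_cons]
        by_cases hjk : j.testBit k = true
        swap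
        · simp only [hjk, Bool.false_eq_true, if_false]
          exact ⟨hlt, h, hb⟩
        · simp only [hjk, if_true]
          have hk := hl k List.mem_cons_self
          have hr := hrows k hk
          have hr' : pts (rows.getD k 0) ∈ code := mem_code_of hr
          obtain ⟨hh, hx'⟩ := gx _ _ (lt_of_inCode hr) hlt hr' h
          refine ⟨Nat.xor_lt_two_pow (lt_of_inCode hr) hlt, hh, ?_⟩
          rw [hb, hvk k hk hr']
          exact hx'
    obtain ⟨-, h, e⟩ := key (List.range 12) (fun k hk => List.mem_range.mp hk) (m % 4096)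
    refine e.trans (congrArg (g i) (Subtype.ext ?_))
    show pts (enc (m % 4096)) = pts m
    rw [show enc (m % 4096) = m from beq_iff_eq.mp hm]
  have hfull : inCode 16777215 = true ∧ inCode 340831 = true ∧ pts 16777215 = univ := by decide +kernel
  have hvU : chi v 4095 = false := by
    rw [show 4095 = 16777215 % 4096 from rfl, hchi _ hfull.1]
    show decide _ = false
    rw [show (⟨pts 16777215, mem_code_of hfull.1⟩ : Word) = ⟨univ, univ_mem_code⟩ from
      Subtype.ext hfull.2.2, hU]
    simpa using hi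
  have hvD : chi v (340831 % 4096) = true := by
    rw [hchi _ hfull.2.1]
    show decide _ = true
    rw [show (⟨pts 340831, mem_code_of hfull.2.1⟩ : Word) = ⟨dod, dod_code⟩ from
      Subtype.ext ((congrArg pts dod_mask.symm).trans (pts_mk dod)), hD]
    simp
  have hbig := List.all_eq_true.mp translates_big v (List.mem_range.mpr (Nat.ofBits_lt_two_pow _))
  have hv12 : v < 4096 := Nat.ofBits_lt_two_pow _
  rw [← chi_eq_par hv12, ← chi_eq_par hv12, hvU, hvD] at hbig
  simp only [Bool.false_or, Bool.not_true, Nat.blt_eq] at hbig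
  -- every translate is among twelve
  let key : GolayPt → ℕ := fun p => (rows.map fun r => if h : pts r ∈ code then g p ⟨_, h⟩ else false).foldr
    (fun b a => bif b then 2 * a + 1 else 2 * a) 0
  have hsub : translates v ⊆ ((univ.filter fun p => p ∉ dod).toList.map key) := by
    intro x hx
    rw [translates, List.mem_dedup, List.mem_map] at hx
    obtain ⟨l, hl, rfl⟩ := hx
    obtain ⟨t, ht, rfl⟩ := List.getElem_of_mem hl
    have hlen : dodImgs.length = dodEls.length := by decide +kernel
    have ht' : t < dodEls.length := hlen ▸ ht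
    have hl' := List.all_eq_true.mp dodImgs_ok t (List.mem_range.mpr ht')
    rw [List.getD_eq_getElem _ _ ht, beq_iff_eq] at hl'
    have hmem : dodEls[t]! ∈ dodEls := by
      rw [getElem!_pos dodEls t ht']; exact List.getElem_mem _
    obtain ⟨σ, hva, e⟩ := stabD_of hmem
    obtain ⟨p, hp, hgp⟩ := htr σ
    refine List.mem_map.mpr ⟨p, mem_toList.mpr (mem_filter.mpr ⟨mem_univ _, hp⟩), ?_⟩
    rw [hl', List.foldr_map]
    show key p = _
    simp only [key]
    rw [List.foldr_map]
    refine List.foldr_ext _ _ _ fun r hr a => ?_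
    have hrc : inCode r = true := by
      obtain ⟨k, hk, rfl⟩ := List.getElem_of_mem hr
      rw [← List.getD_eq_getElem _ 0 hk]
      exact hrows k hk
    rw [dif_pos (mem_code_of hrc)]
    have himg : inCode (img (dodEls[t]!) r) = true := by
      have hh := List.all_eq_true.mp dodEls_ok _ hmem
      simp only [Bool.and_eq_true, preserves, List.all_eq_true] at hh
      exact hh.1.2 r hr
    rw [← chi_eq_par (Nat.ofBits_lt_two_pow _), hchi _ himg, ← hgp ⟨_, mem_code_of hrc⟩]
    congr 2
    refine Subtype.ext (mk_injective ?_)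
    show Golay.mk ((σ : Equiv.Perm GolayPt) • pts r) = Golay.mk (pts (img (dodEls[t]!) r))
    rw [e, mk_smul hva, mk_pts (lt_of_inCode hrc), mk_pts (lt_of_inCode himg)]
  have hle : (translates v).length ≤ ((univ.filter fun p => p ∉ dod).toList.map key).length :=
    (List.subperm_of_subset (List.nodup_dedup _) hsub).length_le
  rw [List.length_map, length_toList, filter_not, filter_mem_eq_inter, univ_inter, ← compl_eq_univ_sdiff,
    compl_dodecad.2] at hle
  omega

end Cfsg.Lib.Leech.Co0Std
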