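import Cfsg.Agent.Leech.Co1Inv.Group
import Cfsg.Agent.Leech.Co1Simple
import Cfsg.Agent.Leech.Co0Std.WitData
import Cfsg.Agent.Leech.OutCo1.Frame
import Cfsg.Agent.Leech.MaximalCount
import Cfsg.Agent.Golay.Elements
import Cfsg.Agent.Golay.Subgroups

/-!
Every involution of the lattice group is conjugate to a sign change: its conjugate in the monomial group is
carried there by the tetrad map. So there are three classes besides the centre.
-/

set_option autoImplicit false

namespace Cfsg.Lib.Leech.Co0Std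

open Cfsg Cfsg.Lib.Golay Cfsg.Lib.PermCert Finset MulAction
open Cfsg.Lib.Leech.Co1Inv (g0 oct oct_code oct_octad mono_mul mono_congr)
open Cfsg.Lib.Leech.OutCo1 (zsmul_cancel)
open scoped Pointwise

theorem mem_code_of {m : ℕ} (h : inCode m = true) : pts m ∈ code :=
  (mem_supports_iff _).mpr (by rw [mk_pts (lt_of_inCode h)]; exact h)

/-- A signed permutation given by tables. -/
def spT (g : PP) (m : ℕ) (x : GolayPt → ℤ) (p : GolayPt) : ℤ :=
  if m.testBit (pidx p) then -x (ptAt (ap g.2 (pidx p))) else x (ptAt (ap g.2 (pidx p)))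

theorem toP_symm {g : PP} (hv : valid 24 g = true) (p : GolayPt) :
    (toP g).symm p = ptAt (ap g.2 (pidx p)) := by
  have hlt : ap g.2 (pidx p) < 24 := by
    have := List.all_eq_true.mp hv (pidx p) (List.mem_range.mpr (pidx_lt p)); simp_all
  rw [Equiv.symm_apply_eq, toP_ptAt hv hlt]
  have := List.all_eq_true.mp hv (pidx p) (List.mem_range.mpr (pidx_lt p))
  simp only [Bool.and_eq_true, beq_iff_eq] at this
  rw [this.1.2]
  exact (ptEquiv.symm_apply_apply p).symm

theorem spT_eq {g : PP} (hv : valid 24 g = true) (m : ℕ) (x : GolayPt → ℤ) :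
    spT g m x = signedPerm (toP g) (pts m) x := by
  funext p
  simp only [spT, signedPerm, toP_symm hv, mem_pts]

/-- The identity table. -/
def idT : PP := ((List.range 24).foldr (fun v a => v + 65536 * a) 0, (List.range 24).foldr (fun v a => v + 65536 * a) 0)

theorem idT_ok : valid 24 idT = true ∧ ∀ p, pidx (toP idT p) = pidx p := by decide +kernel

theorem toP_idT : toP idT = 1 := Equiv.ext fun p => pidx_injective (idT_ok.2 p)

/-- Eight at one point. -/
def e8T (i : GolayPt) : GolayPt → ℤ := fun p => if p = i then 8 else 0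

theorem valid_of_pres {s : PP} (h : preserves s = true) : valid 24 s = true := by
  simp only [preserves, Bool.and_eq_true] at h; exact h.1

/-- The check of one witness against a table. -/
def witOK (r : PP) (w : ℕ × PP × ℕ) : Bool :=
  preserves w.2.1 && inCode w.1 && inCode w.2.2 &&
    decide (∀ i p : GolayPt, spT w.2.1 0 (tetMap (spT idT w.1 (tetMap (e8T i)))) p =
      spT r w.2.2 (spT w.2.1 0 (e8T i)) p)

/-- The check that the witnesses and the commutators reach every fixed word. -/
def coverOK (r : PP) (ws : List (ℕ × PP × ℕ)) (reps : List ℕ) : Bool :=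
  (reps.all inCode) && codeMasks.all fun m => (img r m != m) ||
    ws.any fun w => reps.any fun e => m ^^^ (e ^^^ img r e) == w.2.2

theorem witA_ok : (witA.all (witOK invA.1) && preserves invA.1) = true := by decide +kernel

theorem witB_ok : (witB.all (witOK invB.1) && preserves invB.1) = true := by decide +kernel

theorem cover_ok : (coverOK invA.1 witA repA && coverOK invB.1 witB repB) = true := by decide +kernel

theorem e8_coe (i : GolayPt) : (e8 i : GolayPt → ℤ) = e8T i := by
  funext p; simp [e8, e8T, Pi.single_apply]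

theorem ext_e8 {g h : Co0} (he : ∀ i, g • e8 i = h • e8 i) : g = h :=
  co0_ext fun v => zsmul_cancel (by norm_num : (8 : ℤ) ≠ 0) (by
    rw [← smul_zsmul', ← smul_zsmul', eight_smul, smul_sum', smul_sum']
    exact sum_congr rfl fun i _ => by rw [smul_zsmul', smul_zsmul', he])

/-- Being conjugate to a sign change. -/
def ConjFlip (h : Co0) : Prop :=
  ∃ (a : Co0) (c : Finset GolayPt) (hc : c ∈ code), h = a * mono (one_mem M24) hc * a⁻¹

theorem ConjFlip.conj {h : Co0} (hh : ConjFlip h) (b : Co0) : ConjFlip (b * h * b⁻¹) := by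
  obtain ⟨a, c, hc, rfl⟩ := hh
  exact ⟨b * a, c, hc, by group⟩

theorem conjFlip_wit {r : PP} (hr : preserves r = true) {w : ℕ × PP × ℕ} (hw : witOK r w = true)
    (hd : pts w.2.2 ∈ code) : ConjFlip (mono (toP_mem_M24 hr) hd) := by
  simp only [witOK, Bool.and_eq_true, decide_eq_true_eq] at hw
  obtain ⟨⟨⟨hπ, hc⟩, -⟩, he⟩ := hw
  have hp0 : pts 0 ∈ code := by
    rw [show pts 0 = (∅ : Finset GolayPt) by ext p; simp]; exact empty_mem_code
  set P := mono (toP_mem_M24 hπ) hp0
  refine ⟨P * tetAut, pts w.1, mem_code_of hc, ?_⟩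
  rw [_root_.mul_inv_rev, ← mul_assoc, eq_mul_inv_iff_mul_eq, tetAut_inv]
  refine ext_e8 fun i => Subtype.ext (funext fun p => ?_)
  rw [mul_smul, mul_smul, mul_smul, mul_smul, mono_apply, mono_apply, mono_apply, tetAut_apply, mono_apply,
    tetAut_apply, e8_coe, ← toP_idT, ← spT_eq (valid_of_pres hπ), ← spT_eq (valid_of_pres hr),
    ← spT_eq idT_ok.1, ← spT_eq (valid_of_pres hπ)]
  exact (he i p).symm

theorem mem_fixed {r : PP} (hr : preserves r = true) {ws : List (ℕ × PP × ℕ)} {reps : List ℕ}
    (hw : ws.all (witOK r) = true) (hcov : coverOK r ws reps = true) {c : Finset GolayPt} (hc : c ∈ code)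
    (hfix : toP r • c = c) : ConjFlip (mono (toP_mem_M24 hr) hc) := by
  simp only [coverOK, Bool.and_eq_true, List.all_eq_true, Bool.or_eq_true, List.any_eq_true, beq_iff_eq,
    bne_iff_ne] at hcov
  have hv := valid_of_pres hr
  have hm : mk c ∈ codeMasks := mem_codeMasks.mpr ((mem_supports_iff _).mp hc)
  rcases hcov.2 _ hm with h | ⟨w, hww, e, he, hx⟩
  · exact absurd (by rw [← mk_smul hv, hfix]) h
  have hce : pts e ∈ code := mem_code_of (hcov.1 e he)
  have hwo := List.all_eq_true.mp hw w hww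
  have hd : pts w.2.2 ∈ code := by
    simp only [witOK, Bool.and_eq_true] at hwo
    exact mem_code_of hwo.1.2
  obtain ⟨a, d, hdc, ha⟩ := conjFlip_wit hr hwo hd
  set f := mono (one_mem M24) hce
  have h1 : f * mono (toP_mem_M24 hr) hc * f = mono (toP_mem_M24 hr) hd := by
    rw [mono_mul, mono_mul]
    refine mono_congr _ _ _ _ (by simp) ?_
    rw [one_smul, one_mul, ← pts_mk (symmDiff (symmDiff (pts e) c) (toP r • pts e)), Co1Inv.mk_symmDiff,
      Co1Inv.mk_symmDiff, mk_smul hv, mk_pts (lt_of_inCode (hcov.1 e he)), ← hx]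
    congr 1
    rw [Nat.xor_comm e, Nat.xor_assoc]
  refine ⟨f * a, d, hdc, ?_⟩
  calc mono (toP_mem_M24 hr) hc = f * (f * mono (toP_mem_M24 hr) hc * f) * f := by
        rw [mul_assoc f (mono _ hc) f, ← mul_assoc f f, flip_sq, one_mul, mul_assoc, flip_sq, mul_one]
    _ = _ := by rw [h1, ha, _root_.mul_inv_rev, flipC_inv]; group; rfl

theorem mono_invol {σ : Equiv.Perm GolayPt} {c : Finset GolayPt} {hσ : σ ∈ M24} {hc : c ∈ code}
    (h : mono hσ hc * mono hσ hc = 1) : σ * σ = 1 ∧ σ • c = c := by
  rw [mono_mul, ← flip_empty] at h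
  obtain ⟨h1, h2⟩ := mono_injective _ _ _ _ h
  exact ⟨h1, (symmDiff_eq_bot.mp (by simpa using h2)).symm⟩

theorem mono_conjFlip {σ : Equiv.Perm GolayPt} {c : Finset GolayPt} (hσ : σ ∈ M24) (hc : c ∈ code)
    (h : mono hσ hc * mono hσ hc = 1) : ConjFlip (mono hσ hc) := by
  obtain ⟨h2, hfix⟩ := mono_invol h
  by_cases h1 : σ = 1
  · subst h1
    exact ⟨1, c, hc, by group; try rfl⟩
  have ho : orderOf σ = 2 := orderOf_eq_prime (by rw [pow_two, h2]) h1
  have key : ∀ {r : PP} {ws : List (ℕ × PP × ℕ)} {reps : List ℕ} (hr : preserves r = true),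
      ws.all (witOK r) = true → coverOK r ws reps = true → ∀ g ∈ M24, σ = g * toP r * g⁻¹ →
      ConjFlip (mono hσ hc) := by
    intro r ws reps hr hw hcov g hg e
    have hc' : g⁻¹ • c ∈ code := smul_mem_code (inv_mem hg) hc
    have hf : toP r • g⁻¹ • c = g⁻¹ • c := by
      rw [smul_smul, show toP r * g⁻¹ = g⁻¹ * σ by rw [e]; group, mul_smul, hfix]
    have := (mem_fixed hr hw hcov hc' hf).conj (permEmb ⟨g, hg⟩)
    convert this using 1
    rw [eq_mul_inv_iff_mul_eq]
    show mono hσ hc * mono hg empty_mem_code = mono hg empty_mem_code * mono _ hc'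
    rw [mono_mul, mono_mul]
    exact mono_congr _ _ _ _ (by rw [e]; group) (by simp [smul_smul, ← bot_eq_empty, show σ • (⊥ : Finset GolayPt) = ⊥ from smul_finset_empty σ])
  have hA := witA_ok
  have hB := witB_ok
  have hC := cover_ok
  simp only [Bool.and_eq_true] at hA hB hC
  obtain ⟨g, hg, ⟨e, -⟩ | ⟨e, -⟩⟩ := involution_classes hσ ho
  · exact key hA.2 hA.1 hC.1 g hg e
  · exact key hB.2 hB.1 hC.2 g hg e

theorem index_monoGroup_odd : ¬ 2 ∣ monoGroup.index := by
  have h := monoGroup.card_mul_index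
  rw [← SetLike.coe_sort_coe, coe_monoGroup, show Nat.card ↥({g : Co0 | FixesFrame g}) = _ from card_frameStab,
    card_co0] at h
  omega

instance : Finite Co0 := Nat.finite_of_card_ne_zero (by rw [card_co0]; norm_num)

/-- Every involution is conjugate to a sign change. -/
theorem conjFlip_of_invol {h : Co0} (h2 : h * h = 1) : ConjFlip h := by
  have : Fact (Nat.Prime 2) := ⟨Nat.prime_two⟩
  have hP : IsPGroup 2 (Subgroup.zpowers h) := IsPGroup.of_card_dvd_pow (n := 1) (by
    rw [Nat.card_zpowers, pow_one]; exact orderOf_dvd_of_pow_eq_one (by rw [pow_two, h2]))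
  obtain ⟨x, hx⟩ := hP.nonempty_fixed_point_of_prime_not_dvd_card (Co0 ⧸ monoGroup) index_monoGroup_odd
  induction x using QuotientGroup.induction_on with
  | _ g =>
    have hg : g⁻¹ * h * g ∈ monoGroup := by
      have e := hx ⟨h, Subgroup.mem_zpowers h⟩
      have e' : (QuotientGroup.mk (h * g) : Co0 ⧸ monoGroup) = QuotientGroup.mk g := e
      have := QuotientGroup.eq.mp e'.symm
      rwa [mul_assoc]
    obtain ⟨σ, e, ⟨c, hc, rfl⟩, hgh⟩ := monoGroup_cases hg
    rw [show mono (one_mem M24) hc * permEmb σ = mono σ.2 hc from (mono_split σ.2 hc).symm] at hgh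
    have hm : mono σ.2 hc * mono σ.2 hc = 1 := by
      rw [← hgh, show g⁻¹ * h * g * (g⁻¹ * h * g) = g⁻¹ * (h * h) * g by group, h2]; group
    have := (mono_conjFlip σ.2 hc hm).conj g
    rwa [← hgh, show g * (g⁻¹ * h * g) * g⁻¹ = h by group] at this

/-- The standard dodecad. -/
def dod : Finset GolayPt := Spor.squareDodecad

theorem dod_card : dod.card = 12 := by decide +kernel

theorem dod_code : dod ∈ code := squareDodecad_mem

theorem dod_dodecads : dod ∈ dodecads := ⟨dod_code, dod_card⟩

/-- The sign change on the dodecad. -/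
noncomputable def gD : Co0 := mono (one_mem M24) dod_code

theorem flip_univ (hc : (Finset.univ : Finset GolayPt) ∈ code) : mono (one_mem M24) hc = negOne := by
  refine co0_ext fun v => Subtype.ext (funext fun i => ?_)
  rw [mono_apply, negOne_apply]
  simp [signedPerm, show (1 : Equiv.Perm GolayPt).symm i = i from rfl]

theorem g0_neg : g0 * negOne = mono (one_mem M24) (compl_mem_supports oct_code) := by
  rw [← flip_univ univ_mem_code, g0, flip_mul]
  exact flip_congr (by ext p; simp [mem_symmDiff])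

/-- The classes of involutions. -/
theorem invol_classes {h : Co0} (h2 : h * h = 1) :
    h = 1 ∨ h = negOne ∨ IsConj g0 h ∨ IsConj (g0 * negOne) h ∨ IsConj gD h := by
  obtain ⟨a, c, hc, rfl⟩ := conjFlip_of_invol h2
  have hcl : ∀ (o : Finset GolayPt) (ho : o ∈ code) (σ : M24) (hs : (σ : Equiv.Perm GolayPt) • o = c),
      IsConj (mono (one_mem M24) ho) (a * mono (one_mem M24) hc * a⁻¹) := fun o ho σ hs => by
    refine isConj_iff.mpr ⟨a * permEmb σ, ?_⟩
    rw [← flip_congr (hc := smul_mem_code σ.2 ho) (hd := hc) hs, ← permEmb_conj σ ho]; group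
  rcases card_support_mem hc with e | e | e | e | e
  · refine Or.inl ?_
    obtain rfl : c = ∅ := card_eq_zero.mp e
    rw [flip_empty]; group
  · obtain ⟨σ, hs⟩ := M24_octads_transitive oct_octad (show c ∈ octads from ⟨hc, e⟩)
    exact Or.inr (Or.inr (Or.inl (hcl oct oct_code σ hs)))
  · obtain ⟨σ, hs⟩ := M24_dodecads_transitive dod_dodecads (show c ∈ dodecads from ⟨hc, e⟩)
    exact Or.inr (Or.inr (Or.inr (Or.inr (hcl dod dod_code σ hs))))
  · have hcc : cᶜ ∈ octads := ⟨compl_mem_supports hc, by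
      rw [card_compl, e, Fintype.card_option, ZMod.card]⟩
    obtain ⟨σ, hs⟩ := M24_octads_transitive oct_octad hcc
    refine Or.inr (Or.inr (Or.inr (Or.inl ?_)))
    rw [g0_neg]
    exact hcl _ _ σ (by
      show (σ : Equiv.Perm GolayPt) • octᶜ = c
      rw [← compl_compl c, ← hs]
      ext p; rw [Co1Inv.mem_smul_iff, mem_compl, mem_compl, Subgroup.smul_def, Co1Inv.mem_smul_iff])
  · refine Or.inr (Or.inl ?_)
    obtain rfl : c = univ := eq_univ_of_card c (by rw [e, Fintype.card_option, ZMod.card])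
    rw [flip_univ, ← negOne_comm, mul_inv_cancel_right]

end Cfsg.Lib.Leech.Co0Std
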