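import Cfsg.Agent.Leech.Co0Std.Types
import Cfsg.Agent.Leech.OutCo1.Descent
import Cfsg.Agent.InvolCalc.ZStarApps
import Cfsg.Agent.TwoFusion.FusionTools
import Cfsg.Agent.S0205
import Cfsg.Prelude.Def_Local

/-!
A standard subgroup isomorphic to the lattice group, with cyclic Sylow 2-subgroups in its centraliser: the
central involution is isolated, so it is central modulo the odd core.
-/

set_option autoImplicit false
set_option linter.unusedSectionVars false

namespace Cfsg.Lib.Leech.Co0Std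

open Cfsg Subgroup

universe u
variable {G : Type u} [Group G] [Finite G] (A : Subgroup G)

theorem unique_invol {R : Type*} [Group R] [Finite R] [IsCyclic R] {x y : R} (hx : orderOf x = 2) (hy : orderOf y = 2) :
    x = y := by
  let _ := Fintype.ofFinite R
  have hd : 2 ∣ Fintype.card R := by rw [← Nat.card_eq_fintype_card, ← hx]; exact orderOf_dvd_natCard x
  have h := IsCyclic.card_orderOf_eq_totient (α := R) hd
  rw [Nat.totient_two] at h
  exact Finset.card_le_one.mp h.le x (by simp [hx]) y (by simp [hy])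

/-- The data of the problem. -/
structure Ctx (A : Subgroup G) where
  std : IsStandardSubgroup A
  e : A ≃* Co0
  cyc : ∀ R : Sylow 2 (centralizer (A : Set G)), IsCyclic (R : Subgroup (centralizer (A : Set G)))

namespace Ctx

variable {A} (X : Ctx A)
include X

/-- The central involution. -/
noncomputable def z : G := (X.e.symm negOne : A)

theorem z_mem : X.z ∈ A := (X.e.symm negOne).2

theorem z_comm {a : G} (ha : a ∈ A) : a * X.z = X.z * a := by
  have : X.e ⟨a, ha⟩ * negOne = negOne * X.e ⟨a, ha⟩ := (negOne_comm _).symm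
  have h := congrArg X.e.symm this
  simp only [map_mul, MulEquiv.symm_apply_apply] at h
  exact congrArg Subtype.val h

theorem z_centralizer : X.z ∈ centralizer (A : Set G) := mem_centralizer_iff.mpr fun _ ha => X.z_comm ha

theorem z_sq : X.z * X.z = 1 := by
  show ((X.e.symm negOne : A) : G) * (X.e.symm negOne : A) = 1
  rw [← Subgroup.coe_mul, ← map_mul, negOne_sq, map_one, OneMemClass.coe_one]

theorem z_ne : X.z ≠ 1 := fun h => by
  have : (X.e.symm negOne : A) = 1 := Subtype.ext h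
  rw [MulEquiv.map_eq_one_iff] at this
  exact negOne_ne_one this

theorem orderOf_z : orderOf X.z = 2 := orderOf_eq_prime (by rw [pow_two, X.z_sq]) X.z_ne

theorem inter_cases {a : G} (ha : a ∈ A) (hc : a ∈ centralizer (A : Set G)) : a = 1 ∨ a = X.z := by
  have hz : X.e ⟨a, ha⟩ ∈ center Co0 := Subgroup.mem_center_iff.mpr fun g => by
    have h : (X.e.symm g : A) * ⟨a, ha⟩ = ⟨a, ha⟩ * X.e.symm g :=
      Subtype.ext (mem_centralizer_iff.mp hc _ (X.e.symm g).2)
    simpa using congrArg X.e h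
  rcases center_cases hz with h | h
  · left
    exact congrArg Subtype.val (X.e.injective (h.trans (map_one X.e).symm))
  · right
    exact congrArg Subtype.val (X.e.injective (h.trans (X.e.apply_symm_apply negOne).symm))

theorem mem_sylow_center (R : Sylow 2 (centralizer (A : Set G))) :
    (⟨X.z, X.z_centralizer⟩ : centralizer (A : Set G)) ∈ (R : Subgroup (centralizer (A : Set G))) := by
  have : Fact (Nat.Prime 2) := ⟨Nat.prime_two⟩
  set x : centralizer (A : Set G) := ⟨X.z, X.z_centralizer⟩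
  have hn : (zpowers x).Normal := by
    refine ⟨fun y hy g => ?_⟩
    obtain ⟨k, rfl⟩ := mem_zpowers_iff.mp hy
    have hg : g * x = x * g := Subtype.ext (mem_centralizer_iff.mp g.2 X.z X.z_mem).symm
    rw [(Commute.zpow_right hg k).eq, mul_inv_cancel_right]
    exact zpow_mem (mem_zpowers x) k
  have hp : IsPGroup 2 (zpowers x) :=
    IsPGroup.of_card_dvd_pow (n := 1) (by
      rw [Nat.card_zpowers, pow_one]
      exact orderOf_dvd_of_pow_eq_one (Subtype.ext (by rw [pow_two]; exact X.z_sq)))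
  obtain ⟨Q, hQ⟩ := hp.exists_le_sylow
  obtain ⟨g, hg⟩ := MulAction.exists_smul_eq (centralizer (A : Set G)) Q R
  have hxQ : g⁻¹ * x * g ∈ (Q : Subgroup _) := by
    have := hn.conj_mem x (mem_zpowers x) g⁻¹
    rw [inv_inv] at this
    exact hQ this
  rw [← hg, Sylow.coe_subgroup_smul]
  exact ⟨g⁻¹ * x * g, hxQ, by simp [MulAut.conj_apply, mul_assoc]⟩

theorem invol_eq {x : G} (hx : x ∈ centralizer (A : Set G)) (h2 : x * x = 1) : x = 1 ∨ x = X.z := by
  by_contra h
  push Not at h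
  have : Fact (Nat.Prime 2) := ⟨Nat.prime_two⟩
  set y : centralizer (A : Set G) := ⟨x, hx⟩
  have hy : orderOf y = 2 := orderOf_eq_prime (Subtype.ext (by rw [pow_two]; exact h2)) fun e => h.1 (congrArg Subtype.val e)
  obtain ⟨R, hR⟩ := (IsPGroup.of_card_dvd_pow (n := 1) (p := 2) (G := zpowers y)
    (by rw [Nat.card_zpowers, hy, pow_one])).exists_le_sylow
  have := X.cyc R
  have e := unique_invol (x := (⟨y, hR (mem_zpowers y)⟩ : (R : Subgroup (centralizer (A : Set G)))))
    (y := ⟨⟨X.z, X.z_centralizer⟩, X.mem_sylow_center R⟩) (by rw [Subgroup.orderOf_mk]; exact hy)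
    (by rw [Subgroup.orderOf_mk, Subgroup.orderOf_mk]; exact X.orderOf_z)
  exact h.2 (congrArg (fun r : (R : Subgroup (centralizer (A : Set G))) => ((r : centralizer (A : Set G)) : G)) e)

theorem normalizer_le : normalizer (A : Set G) ≤ centralizer ({X.z} : Set G) := by
  intro g hg
  have hzA : g * X.z * g⁻¹ ∈ A := (mem_normalizer_iff.mp hg X.z).mp X.z_mem
  have hzC : g * X.z * g⁻¹ ∈ centralizer (A : Set G) := mem_centralizer_iff.mpr fun a ha => by
    have ha' : g⁻¹ * a * g ∈ A := by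
      have := (mem_normalizer_iff.mp (inv_mem hg) a).mp ha
      rwa [inv_inv] at this
    have := X.z_comm ha'
    calc a * (g * X.z * g⁻¹) = g * (g⁻¹ * a * g * X.z) * g⁻¹ := by group
      _ = g * (X.z * (g⁻¹ * a * g)) * g⁻¹ := by rw [this]
      _ = _ := by group
  rcases X.inter_cases hzA hzC with h | h
  · rw [conj_eq_one_iff] at h; exact absurd h X.z_ne
  · exact mem_centralizer_singleton_iff.mpr (mul_inv_eq_iff_eq_mul.mp h)

theorem centralizer_z : centralizer ({X.z} : Set G) = normalizer (A : Set G) := by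
  refine le_antisymm (fun g hg => ?_) X.normalizer_le
  rw [X.std.2.2.2]
  by_contra hgN
  have hodd := X.std.2.1.2 g hgN
  have hz : X.z ∈ (centralizer (A : Set G)).map (MulAut.conj g).toMonoidHom := by
    refine ⟨X.z, X.z_centralizer, ?_⟩
    show g * X.z * g⁻¹ = X.z
    rw [mem_centralizer_singleton_iff.mp hg, mul_inv_cancel_right]
  have hd := Subgroup.orderOf_dvd_natCard _ (Subgroup.mem_inf.2 ⟨X.z_centralizer, hz⟩)
  rw [X.orderOf_z] at hd
  obtain ⟨k, hk⟩ := hodd
  omega

theorem factor {n : G} (hn : n ∈ normalizer (A : Set G)) :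
    ∃ a ∈ A, ∃ c ∈ centralizer (A : Set G), n = a * c := by
  let σ : A ≃* A :=
    { toFun := fun x => ⟨n * x * n⁻¹, (mem_normalizer_iff.mp hn _).mp x.2⟩
      invFun := fun x => ⟨n⁻¹ * x * n, by
        have := (mem_normalizer_iff.mp (inv_mem hn) _).mp x.2
        rwa [inv_inv] at this⟩
      left_inv := fun x => Subtype.ext (by show n⁻¹ * (n * x * n⁻¹) * n = x; group)
      right_inv := fun x => Subtype.ext (by show n * (n⁻¹ * x * n) * n⁻¹ = x; group)
      map_mul' := fun x y => Subtype.ext (by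
        show n * (x * y : G) * n⁻¹ = (n * x * n⁻¹) * (n * y * n⁻¹)
        group) }
  obtain ⟨B, hB⟩ := OutCo1.exists_conj ((X.e.symm.trans σ).trans X.e)
  refine ⟨(X.e.symm B : A), (X.e.symm B).2, ((X.e.symm B : A) : G)⁻¹ * n, ?_, by group⟩
  refine mem_centralizer_iff.mpr fun a ha => ?_
  have h := congrArg X.e.symm (hB (X.e ⟨a, ha⟩))
  simp only [MulEquiv.trans_apply, MulEquiv.symm_apply_apply, map_mul, map_inv] at h
  have h' : n * a * n⁻¹ = ((X.e.symm B : A) : G) * a * ((X.e.symm B : A) : G)⁻¹ := congrArg Subtype.val h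
  calc a * (((X.e.symm B : A) : G)⁻¹ * n)
      = ((X.e.symm B : A) : G)⁻¹ * (((X.e.symm B : A) : G) * a * ((X.e.symm B : A) : G)⁻¹) * n := by group
    _ = _ := by rw [← h']; group

theorem solvable_centralizer : Group.IsSolvable (centralizer (A : Set G)) := by
  set C := centralizer (A : Set G)
  obtain ⟨R₀⟩ := (inferInstance : Nonempty (Sylow 2 C))
  have := X.cyc R₀
  obtain ⟨P, K, hK, hKP⟩ := Cfsg.Lib.TwoFusion.hasNormalTwoComplement_of_cyclic R₀
  have : K.Normal := hK
  have := X.cyc P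
  have hPq : IsMulCommutative (P : Subgroup C) := ⟨⟨IsCyclic.commGroup.mul_comm⟩⟩
  have : Fact (Nat.Prime 2) := ⟨Nat.prime_two⟩
  have hodd : Odd (Nat.card K) := by
    rw [Nat.odd_iff, ← Nat.two_dvd_ne_zero, ← hKP.index_eq_card]
    exact P.not_dvd_index
  have h1 : Group.IsSolvable K := Cfsg.Agent.S0205.result hodd
  have h2 : Group.IsSolvable (C ⧸ K) := by
    have e : (P : Subgroup C) ≃* C ⧸ K := (hKP.symm.QuotientMulEquiv).symm
    exact Group.isSolvable_of_surjective (f := e.toMonoidHom) e.surjective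
  exact Group.isSolvable_of_ker_le_range K.subtype (QuotientGroup.mk' K) (by rw [QuotientGroup.ker_mk', range_subtype])

theorem perfect_le {P : Subgroup G} (hP : P ≤ normalizer (A : Set G)) (hperf : ⁅P, P⁆ = P) : P ≤ A := by
  set N := normalizer (A : Set G)
  have hAN : A ≤ N := le_normalizer
  have : (A.subgroupOf N).Normal := normal_subgroupOf_of_le_normalizer le_rfl
  set π := QuotientGroup.mk' (A.subgroupOf N)
  have hsol : Group.IsSolvable (N ⧸ A.subgroupOf N) := by
    have := X.solvable_centralizer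
    refine Group.isSolvable_of_surjective (f := π.comp (Subgroup.inclusion
      (show centralizer (A : Set G) ≤ N from centralizer_le_normalizer _))) fun q => ?_
    obtain ⟨⟨n, hn⟩, rfl⟩ := QuotientGroup.mk'_surjective _ q
    obtain ⟨a, ha, c, hc, rfl⟩ := X.factor hn
    refine ⟨⟨c, hc⟩, ?_⟩
    show π ⟨c, _⟩ = π ⟨a * c, hn⟩
    rw [show (⟨a * c, hn⟩ : N) = ⟨a, hAN ha⟩ * ⟨c, centralizer_le_normalizer _ hc⟩ from Subtype.ext rfl, map_mul,
      show π ⟨a, hAN ha⟩ = 1 from (QuotientGroup.eq_one_iff _).mpr ha, one_mul]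
  set Y := (P.subgroupOf N).map π
  have hY : ⁅Y, Y⁆ = Y := by
    rw [← map_commutator]
    congr 1
    refine Subgroup.map_injective N.subtype_injective ?_
    rw [map_commutator, subgroupOf_map_subtype, inf_eq_left.mpr hP, hperf]
  obtain ⟨n, hn⟩ := (Group.isSolvable_def _).mp hsol
  have hle : ∀ k, Y ≤ derivedSeries (N ⧸ A.subgroupOf N) k := fun k => by
    induction k with
    | zero => simp
    | succ k ih => rw [derivedSeries_succ, ← hY]; exact commutator_mono ih ih
  intro x hx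
  have hm : π ⟨x, hP hx⟩ ∈ Y := mem_map_of_mem π (mem_subgroupOf.mpr hx)
  have := hle n hm
  rw [hn, mem_bot] at this
  exact (QuotientGroup.eq_one_iff (⟨x, hP hx⟩ : N)).mp this

theorem conj_z_mem {g : G} (hc : X.z * (g * X.z * g⁻¹) = (g * X.z * g⁻¹) * X.z) : g⁻¹ * X.z * g ∈ A := by
  have : Fact (Nat.Prime 2) := ⟨Nat.prime_two⟩
  set t := g * X.z * g⁻¹ with ht
  set C := centralizer (A : Set G)
  have htN : t ∈ normalizer (A : Set G) := by
    rw [← X.centralizer_z]; exact mem_centralizer_singleton_iff.mpr hc.symm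
  obtain ⟨a, ha, c, hcC, htac⟩ := X.factor htN
  have hac : a * c = c * a := mem_centralizer_iff.mp hcC a ha
  have ht2 : t * t = 1 := by
    rw [ht, show g * X.z * g⁻¹ * (g * X.z * g⁻¹) = g * (X.z * X.z) * g⁻¹ by group, X.z_sq]; group
  have hcc : c * c = (a * a)⁻¹ := by
    rw [eq_inv_iff_mul_eq_one]
    have e : (a * c) * (a * c) = 1 := htac ▸ ht2
    rw [← mul_eq_one_comm]
    calc a * a * (c * c) = a * (a * c) * c := by group
      _ = a * (c * a) * c := by rw [hac]
      _ = 1 := by rw [← e]; group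
  have hc4 : (c ^ 2) ^ 2 = 1 := by
    have hA : c * c ∈ A := hcc ▸ inv_mem (mul_mem ha ha)
    rcases X.inter_cases hA (mul_mem hcC hcC) with h | h <;> rw [pow_two c, h, pow_two]
    · rw [one_mul]
    · exact X.z_sq
  obtain ⟨R, hR⟩ := (IsPGroup.of_card_dvd_pow (n := 2) (p := 2) (G := zpowers (⟨c, hcC⟩ : C)) (by
    rw [Nat.card_zpowers]
    exact orderOf_dvd_of_pow_eq_one (Subtype.ext (by
      show c ^ (2 ^ 2) = 1
      rw [show (2 : ℕ) ^ 2 = 2 * 2 from rfl, pow_mul]
      exact hc4)))).exists_le_sylow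
  have hcycR := X.cyc R
  obtain ⟨ρ, hρ⟩ := IsCyclic.exists_generator (α := (R : Subgroup C))
  obtain ⟨k, hk⟩ := R.isPGroup'.exists_card_eq
  have hzR : (⟨X.z, X.z_centralizer⟩ : C) ∈ (R : Subgroup C) := X.mem_sylow_center R
  have hord : orderOf ρ = 2 ^ k := by rw [orderOf_eq_card_of_forall_mem_zpowers hρ, hk]
  obtain ⟨j, rfl⟩ : ∃ j, k = j + 1 := by
    refine ⟨k - 1, ?_⟩
    have h2 : 2 ∣ Nat.card (R : Subgroup C) := by
      have h := orderOf_dvd_natCard (⟨⟨X.z, X.z_centralizer⟩, hzR⟩ : (R : Subgroup C))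
      rwa [Subgroup.orderOf_mk, Subgroup.orderOf_mk, X.orderOf_z] at h
    rcases Nat.eq_zero_or_pos k with rfl | hk0
    · rw [hk, pow_zero] at h2; omega
    · omega
  set r : G := ((ρ : C) : G)
  have hρC : r ∈ C := (ρ : C).2
  have hrc : r * c = c * r := by
    obtain ⟨m, hm⟩ := mem_zpowers_iff.mp (hρ ⟨⟨c, hcC⟩, hR (mem_zpowers _)⟩)
    have e : r ^ m = c := by
      have := congrArg (fun x : (R : Subgroup C) => ((x : C) : G)) hm
      simpa [r] using this
    rw [← e]; exact (Commute.zpow_right (Commute.refl r) m).eq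
  have hrt : r * t = t * r := by
    have hra : a * r = r * a := mem_centralizer_iff.mp hρC a ha
    rw [htac, ← mul_assoc, ← hra, mul_assoc, hrc, mul_assoc]
  have hrN : g⁻¹ * r * g ∈ normalizer (A : Set G) := by
    rw [← X.centralizer_z, mem_centralizer_singleton_iff]
    calc g⁻¹ * r * g * X.z = g⁻¹ * (r * (g * X.z * g⁻¹)) * g := by group
      _ = g⁻¹ * ((g * X.z * g⁻¹) * r) * g := by rw [hrt]
      _ = _ := by group
  obtain ⟨α, hα, γ, hγ, hαγ⟩ := X.factor hrN
  have hαγc : Commute α γ := mem_centralizer_iff.mp hγ α hα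
  obtain ⟨i, v, hv, hdec⟩ : ∃ i v, ¬ 2 ∣ v ∧ orderOf γ = 2 ^ i * v :=
    Nat.exists_eq_pow_mul_and_not_dvd (orderOf_pos γ).ne' 2 (by norm_num)
  set m := v ^ Nat.totient (2 ^ (j + 1)) with hm
  have hm1 : m ≡ 1 [MOD 2 ^ (j + 1)] :=
    Nat.ModEq.pow_totient ((Nat.prime_two.coprime_iff_not_dvd.mpr hv).symm.pow_right _)
  have hrm : r ^ m = r := by
    have hr : r ^ (2 ^ (j + 1)) = 1 := by
      have := congrArg (fun x : (R : Subgroup C) => ((x : C) : G)) (hord ▸ pow_orderOf_eq_one ρ)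
      simpa [r] using this
    conv_rhs => rw [← pow_one r]
    exact pow_eq_pow_iff_modEq.mpr (Nat.ModEq.of_dvd (orderOf_dvd_of_pow_eq_one hr) hm1)
  have hγ2 : (γ ^ m) ^ (2 ^ i) = 1 := by
    rw [← pow_mul, ← orderOf_dvd_iff_pow_eq_one, hdec, mul_comm m]
    exact mul_dvd_mul_left _ (dvd_pow_self v (Nat.totient_pos.mpr (by positivity)).ne')
  set γ' : C := ⟨γ ^ m, pow_mem hγ m⟩
  have hbound : (γ ^ m) ^ (2 ^ (j + 1)) = 1 := by
    obtain ⟨S, hS⟩ := (IsPGroup.of_card_dvd_pow (n := i) (p := 2) (G := zpowers γ') (by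
      rw [Nat.card_zpowers]
      exact orderOf_dvd_of_pow_eq_one (Subtype.ext hγ2))).exists_le_sylow
    have h := pow_card_eq_one' (G := (S : Subgroup C)) (x := ⟨γ', hS (mem_zpowers γ')⟩)
    rw [S.card_eq_multiplicity, ← R.card_eq_multiplicity, hk] at h
    exact congrArg (fun x : (S : Subgroup C) => ((x : C) : G)) h
  have hγA : (γ ^ m) ^ (2 ^ j) ∈ A := by
    rcases X.invol_eq (pow_mem (pow_mem hγ m) _) (by
      rw [← pow_add, ← two_mul, ← pow_succ']; exact hbound) with h | h
    · rw [h]; exact one_mem A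
    · rw [h]; exact X.z_mem
  have hrz : r ^ (2 ^ j) = X.z := by
    rcases X.invol_eq (pow_mem hρC (2 ^ j)) (by
      rw [← pow_add, ← two_mul, ← pow_succ']
      have := congrArg (fun x : (R : Subgroup C) => ((x : C) : G)) (hord ▸ pow_orderOf_eq_one ρ)
      simpa [r] using this) with h | h
    · exfalso
      have : ρ ^ (2 ^ j) = 1 := Subtype.ext (Subtype.ext (by simpa [r] using h))
      have hd := orderOf_dvd_of_pow_eq_one this
      rw [hord, Nat.pow_dvd_pow_iff_le_right (by norm_num)] at hd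
      omega
    · exact h
  have e : g⁻¹ * X.z * g = (α ^ m) ^ (2 ^ j) * (γ ^ m) ^ (2 ^ j) := by
    rw [← ((hαγc.pow_pow m m).mul_pow (2 ^ j)), ← hαγc.mul_pow m, ← hαγ, ← hrz]
    conv_lhs => rw [← hrm]
    have h := fun (x : G) (n : ℕ) => (map_pow (MulAut.conj g⁻¹) x n)
    simp only [MulAut.conj_apply, inv_inv] at h
    rw [← h, ← h]
  rw [e]
  exact mul_mem (pow_mem (pow_mem hα m) _) hγA

/-- The centraliser in `A` of an element of `A`. -/
def cA (_X : Ctx A) (t : G) : Subgroup G :=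
  A ⊓ centralizer ({t} : Set G)

/-- It is the centraliser in the lattice group. -/
noncomputable def cAEquiv {t : G} (ht : t ∈ A) :
    X.cA t ≃* centralizer ({X.e ⟨t, ht⟩} : Set Co0) where
  toFun x := ⟨X.e ⟨x, x.2.1⟩, by
    rw [mem_centralizer_singleton_iff, ← map_mul, ← map_mul]
    exact congrArg X.e (Subtype.ext (mem_centralizer_singleton_iff.mp x.2.2))⟩
  invFun y := ⟨(X.e.symm (y : Co0) : A), (X.e.symm (y : Co0)).2, by
    have h := congrArg X.e.symm (mem_centralizer_singleton_iff.mp y.2)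
    simp only [map_mul, MulEquiv.symm_apply_apply] at h
    exact mem_centralizer_singleton_iff.mpr (congrArg Subtype.val h)⟩
  left_inv x := Subtype.ext (by simp)
  right_inv y := Subtype.ext (by simp)
  map_mul' x y := Subtype.ext (by
    show X.e ⟨((x * y : X.cA t) : G), _⟩ = X.e ⟨x, x.2.1⟩ * X.e ⟨y, y.2.1⟩
    rw [← map_mul]; rfl)

theorem e_props {t : G} (ht : t ∈ A) (h2 : t * t = 1) (h1 : t ≠ 1) (hz : t ≠ X.z) :
    X.e ⟨t, ht⟩ * X.e ⟨t, ht⟩ = 1 ∧ X.e ⟨t, ht⟩ ≠ 1 ∧ X.e ⟨t, ht⟩ ≠ negOne := by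
  refine ⟨by rw [← map_mul]; exact (congrArg X.e (Subtype.ext h2)).trans (map_one X.e),
    fun h => h1 (congrArg Subtype.val (X.e.injective (h.trans (map_one X.e).symm))), fun h => hz ?_⟩
  exact congrArg Subtype.val (X.e.injective (h.trans (X.e.apply_symm_apply negOne).symm))

theorem cA_perfect {t : G} (ht : t ∈ A) (h2 : t * t = 1) (h1 : t ≠ 1) (hz : t ≠ X.z) :
    ⁅X.cA t, X.cA t⁆ = X.cA t := by
  obtain ⟨e2, e1, ez⟩ := X.e_props ht h2 h1 hz
  have h := congrArg (Subgroup.map ((X.cA t).subtype.comp (X.cAEquiv ht).symm.toMonoidHom))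
    (perfect_cent e2 e1 ez)
  rw [commutator_def, map_commutator, ← map_map, map_top_of_surjective _ (X.cAEquiv ht).symm.surjective,
    ← MonoidHom.range_eq_map, range_subtype] at h
  exact h

/-- The central involution is isolated. -/
theorem isolated : IsIsolatedInvolution X.z := by
  refine ⟨X.orderOf_z, fun g hc => ?_⟩
  by_contra hne
  have hc' : X.z * (g⁻¹ * X.z * g⁻¹⁻¹) = g⁻¹ * X.z * g⁻¹⁻¹ * X.z := by
    rw [inv_inv]
    calc X.z * (g⁻¹ * X.z * g) = g⁻¹ * ((g * X.z * g⁻¹) * X.z) * g := by group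
      _ = g⁻¹ * (X.z * (g * X.z * g⁻¹)) * g := by rw [hc.eq]
      _ = _ := by group
  have hu : g⁻¹ * X.z * g ∈ A := X.conj_z_mem hc.eq
  have ht : g * X.z * g⁻¹ ∈ A := by
    have := X.conj_z_mem hc'
    rwa [inv_inv] at this
  set t := g * X.z * g⁻¹ with htdef
  set u := g⁻¹ * X.z * g with hudef
  have sq : ∀ x : G, (x * X.z * x⁻¹) * (x * X.z * x⁻¹) = 1 := fun x => by
    rw [show x * X.z * x⁻¹ * (x * X.z * x⁻¹) = x * (X.z * X.z) * x⁻¹ by group, X.z_sq]; group
  have ne1 : ∀ x : G, x * X.z * x⁻¹ ≠ 1 := fun x h => X.z_ne (conj_eq_one_iff.mp h)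
  have ht2 : t * t = 1 := sq g
  have hu2 : u * u = 1 := by simpa using sq g⁻¹
  have hu1 : u ≠ 1 := by simpa using ne1 g⁻¹
  have huz : u ≠ X.z := fun h => hne (by
    show t = X.z
    rw [htdef]
    conv_lhs => rw [← h, hudef]
    group)
  have himgT : (X.cA t).map (MulAut.conj g⁻¹).toMonoidHom ≤ normalizer (A : Set G) := by
    rintro _ ⟨x, hx, rfl⟩
    rw [← X.centralizer_z, mem_centralizer_singleton_iff]
    show g⁻¹ * x * g⁻¹⁻¹ * X.z = X.z * (g⁻¹ * x * g⁻¹⁻¹)
    rw [inv_inv]
    calc g⁻¹ * x * g * X.z = g⁻¹ * (x * t) * g := by rw [htdef]; group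
      _ = g⁻¹ * (t * x) * g := by rw [mem_centralizer_singleton_iff.mp hx.2]
      _ = _ := by rw [htdef]; group
  have himgU : (X.cA u).map (MulAut.conj g).toMonoidHom ≤ normalizer (A : Set G) := by
    rintro _ ⟨x, hx, rfl⟩
    rw [← X.centralizer_z, mem_centralizer_singleton_iff]
    show g * x * g⁻¹ * X.z = X.z * (g * x * g⁻¹)
    calc g * x * g⁻¹ * X.z = g * (x * u) * g⁻¹ := by rw [hudef]; group
      _ = g * (u * x) * g⁻¹ := by rw [mem_centralizer_singleton_iff.mp hx.2]
      _ = _ := by rw [hudef]; group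
  have hT := X.perfect_le himgT (by rw [← map_commutator, X.cA_perfect ht ht2 (ne1 g) hne])
  have hU := X.perfect_le himgU (by rw [← map_commutator, X.cA_perfect hu hu2 hu1 huz])
  let φ : X.cA t ≃* X.cA u :=
    { toFun := fun x => ⟨g⁻¹ * x * g, by simpa using hT (mem_map_of_mem _ x.2), by
        refine mem_centralizer_singleton_iff.mpr ?_
        calc g⁻¹ * x * g * u = g⁻¹ * (x * X.z) * g := by rw [hudef]; group
          _ = g⁻¹ * (X.z * x) * g := by rw [X.z_comm x.2.1]
          _ = _ := by rw [hudef]; group⟩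
      invFun := fun x => ⟨g * x * g⁻¹, by simpa using hU (mem_map_of_mem _ x.2), by
        refine mem_centralizer_singleton_iff.mpr ?_
        calc g * x * g⁻¹ * t = g * (x * X.z) * g⁻¹ := by rw [htdef]; group
          _ = g * (X.z * x) * g⁻¹ := by rw [X.z_comm x.2.1]
          _ = _ := by rw [htdef]; group⟩
      left_inv := fun x => Subtype.ext (by show g * (g⁻¹ * x * g) * g⁻¹ = x; group)
      right_inv := fun x => Subtype.ext (by show g⁻¹ * (g * x * g⁻¹) * g = x; group)
      map_mul' := fun x y => Subtype.ext (by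
        show g⁻¹ * ((x : G) * y) * g = (g⁻¹ * x * g) * (g⁻¹ * y * g)
        group) }
  obtain ⟨a2, a1, az⟩ := X.e_props ht ht2 (ne1 g) hne
  obtain ⟨b2, b1, bz⟩ := X.e_props hu hu2 hu1 huz
  set ψ := ((X.cAEquiv ht).symm.trans φ).trans (X.cAEquiv hu) with hψ
  have key : ∀ (y : centralizer ({X.e ⟨t, ht⟩} : Set Co0)) (r : G) (hr : r ∈ A),
      g⁻¹ * ((X.e.symm (y : Co0) : A) : G) * g = r → (ψ y : Co0) = X.e ⟨r, hr⟩ :=
    fun y r hr h => congrArg X.e (Subtype.ext h)
  refine no_iso a2 a1 az b2 b1 bz ψ ?_ ?_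
  · refine (key _ X.z X.z_mem ?_).trans (X.e.apply_symm_apply negOne)
    rw [X.e.symm_apply_apply]
    show g⁻¹ * t * g = X.z
    rw [htdef]; group
  · exact key _ u hu rfl

theorem normal (hO : oddCore G = ⊥) : A.Normal := by
  have htop : normalizer (A : Set G) = ⊤ := by
    rw [← X.centralizer_z, eq_top_iff]
    intro g _
    rw [mem_centralizer_singleton_iff]
    have h := Cfsg.Lib.ZStarApps.zstarProp X.isolated g
    rw [show pPrimeCore 2 G = ⊥ from hO, mem_bot, mul_inv_eq_one, mul_inv_eq_iff_eq_mul] at h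
    exact h.symm
  exact normalizer_eq_top_iff.mp htop

end Ctx

end Cfsg.Lib.Leech.Co0Std
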