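import Cfsg.Agent.PermCert.Basic

/-!
Elements of the stabiliser of the standard octad, with words whose commutators with them span the kernel words.
-/

namespace Cfsg.Lib.Leech.Co0Std

open Cfsg.Lib.PermCert

/-- Elements of the stabiliser of the octad. -/
def stabEls : List PP := [
  (3607462323319505271357727586086761133005684359516529997051665341254548986102416581224826685478239315152651616266,
    12024703156962244509842067699230376291249514028997323641470624175653726450831958109229332770501091537109912059916),
  (3006235422969278339483597188011275466782127185762779710034465802212379107949715844678264175301971633089103855616,
    3006327160674177472335884705777212552722155922888158209248183737088832736548351364097372650149002188734469308416),
  (12024611417577549636441600453873657640541031690136184872373588029453356777110625119292950869887167030026047586311,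
    3607489844882945013122711291046562737086918373769838048998482379940293357729190631978187653103224505843799490561),
  (13227074394792129031900036217096458606012485870179681904304240683880720461456903561481885132459377904716336988161,
    5411253115243318173423668633683966166865101795153691550979219718965716609447361503240818821876003748757190475786),
  (7816105674077156579373609880552244556649333290138132827484540120761001022390839528337985568446540853302511337476,
    6613569307426586880687945832126839829529114957346365244372377827523343393099914637275699458293933932710228721676),
  (8417332577087050488732777861175871085443419699849198091541858672773375471088516176413556013216137939070227185671,
    7815995587823389068724042248914846728744966039184918141956986457679181256719639771540300103196050089946452000771)]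

/-- An element and a word for each commutator. -/
def comPairs : List (ℕ × ℕ) := [(0, 1009728), (0, 1256224), (0, 2220640), (0, 4645632), (1, 1256224), (3, 150618)]

end Cfsg.Lib.Leech.Co0Std
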