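import Cfsg.Agent.Leech.Co1Inv.Group
import Cfsg.Agent.Leech.Co1Core
import Cfsg.Agent.Leech.Co0Std.StabData

/-!
The centraliser of the sign change on an octad: it is perfect, and none of its automorphisms exchanges that
sign change with the negation. The latter is seen on the sixteen coordinates off the octad.
-/

set_option autoImplicit false
set_option linter.unusedSectionVars false
set_option linter.unusedDecidableInType false

namespace Cfsg.Lib.Leech.Co0Std

open Cfsg Cfsg.Lib.Golay Cfsg.Lib.PermCert Finset MulAction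
open Cfsg.Lib.Leech.Co1Inv
open scoped Pointwise commutatorElement

/-- The sign change on the octad, in its centraliser. -/
noncomputable def octC : Cg := monoC 1 oct_code

/-- The sign change on the complement of the octad. -/
noncomputable def comC : Cg := monoC 1 compl_code

theorem coe_octC : (octC : Co0) = g0 := rfl

theorem flipC_congr {c d : Finset GolayPt} (h : c = d) (hc : c ∈ code) (hd : d ∈ code) :
    monoC 1 hc = monoC 1 hd := monoC_congr _ _ rfl h

/-! ## The words spanning the kernel -/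

/-- The word of a commutator. -/
def comWord (q : ℕ × ℕ) : ℕ := q.2 ^^^ img (stabEls[q.1]!) q.2

/-- The span of the commutators. -/
def comSpan : List ℕ := comPairs.foldr (fun q L => L ++ L.map fun m => comWord q ^^^ m) [0]

theorem comPairs_ok : (comPairs.all fun q =>
    preserves (stabEls[q.1]!) && img (stabEls[q.1]!) 5279 == 5279 && inCode q.2) = true := by decide +kernel

theorem comSpan_ok : (codeMasks.all fun m =>
    !(m &&& 5279 == 0 || m &&& 5279 == 5279) || comSpan.contains m) = true := by decide +kernel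

theorem transl_comm : (translList.all fun t => stabEls.any fun a => preserves a && img a 5279 == 5279 &&
    translList.any fun b => (List.range 24).all fun i => ap a.1 (ap b.1 i) == ap t.1 (ap b.1 (ap a.1 i))) =
      true := by
  decide +kernel

theorem transl_fpf : (translList.all fun t => (List.range 24).all (fun i => ap t.1 i == i) ||
    (List.range 24).all fun i => Nat.testBit 5279 i || ap t.1 i != i) = true := by decide +kernel

theorem dis_weight : (disMasks.all fun m => m == 0 || m == 16771936 || pc m == 8) = true := by decide +kernel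

theorem dis_separate : ∀ p q : GolayPt, p ∉ oct → q ∉ oct → p ≠ q →
    (disMasks.any fun m => m.testBit (pidx p) != m.testBit (pidx q)) = true := by decide +kernel

theorem dis_com : (translList.any fun t => disMasks.any fun m => m ^^^ img t m == 16771936) = true := by
  decide +kernel

theorem stab_of {a : PP} (hp : preserves a = true) (ho : img a 5279 = 5279) :
    ∃ σ : setStab oct, valid 24 a = true ∧ (σ : Equiv.Perm GolayPt) = toP a := by
  have hv : valid 24 a = true := by simp only [preserves, Bool.and_eq_true] at hp; exact hp.1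
  exact ⟨⟨toP a, toP_mem_M24 hp, mk_injective (by rw [mk_smul hv, mask_facts.2.2.2, ho])⟩, hv, rfl⟩

theorem comWord_mem {q : ℕ × ℕ} (hq : q ∈ comPairs) :
    ∃ hc : pts (comWord q) ∈ code, monoC 1 hc ∈ commutator Cg := by
  have h := List.all_eq_true.mp comPairs_ok q hq
  simp only [Bool.and_eq_true, beq_iff_eq] at h
  obtain ⟨σ, hv, e⟩ := stab_of h.1.1 h.1.2
  have hc0 : pts q.2 ∈ code := (mem_supports_iff _).mpr (by rw [mk_pts (lt_of_inCode h.2)]; exact h.2)
  have hd := symmDiff_mem_supports hc0 (smul_mem_code σ.2.1 hc0)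
  have he : symmDiff (pts q.2) ((σ : Equiv.Perm GolayPt) • pts q.2) = pts (comWord q) := by
    rw [← pts_mk (symmDiff (pts q.2) _), Co1Inv.mk_symmDiff, e, mk_smul hv, mk_pts (lt_of_inCode h.2)]
    rfl
  refine ⟨he ▸ hd, ?_⟩
  have hm : monoC 1 hc0 * permC σ * (monoC 1 hc0)⁻¹ * (permC σ)⁻¹ ∈ commutator Cg :=
    Subgroup.commutator_mem_commutator (Subgroup.mem_top _) (Subgroup.mem_top _)
  rw [show monoC 1 hc0 * permC σ * (monoC 1 hc0)⁻¹ * (permC σ)⁻¹ =
    monoC 1 hc0 * (permC σ * monoC 1 hc0 * (permC σ)⁻¹)⁻¹ by group, permC_conj,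
    inv_eq_of_mul_eq_one_right (b := monoC 1 (smul_mem_code σ.2.1 hc0)) (by
      rw [flip_mul', monoC_congr _ empty_mem_code rfl (symmDiff_self _), monoC_one]), flip_mul'] at hm
  rwa [flipC_congr he hd (he ▸ hd)] at hm

theorem span_mem : ∀ (L : List (ℕ × ℕ)), (∀ q ∈ L, q ∈ comPairs) →
    ∀ m ∈ L.foldr (fun q M => M ++ M.map fun x => comWord q ^^^ x) [0],
      m < 2 ^ 24 ∧ ∃ hc : pts m ∈ code, monoC 1 hc ∈ commutator Cg
  | [], _, m, hm => by
    obtain rfl : m = 0 := by simpa using hm
    have h0 : pts 0 = (∅ : Finset GolayPt) := by ext p; simp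
    refine ⟨by norm_num, h0 ▸ empty_mem_code, ?_⟩
    rw [flipC_congr h0 (h0 ▸ empty_mem_code) empty_mem_code, monoC_one]
    exact one_mem _
  | q :: L, hL, m, hm => by
    simp only [List.foldr_cons, List.mem_append, List.mem_map] at hm
    have ih := span_mem L fun r hr => hL r (List.mem_cons_of_mem q hr)
    rcases hm with hm | ⟨x, hx, rfl⟩
    · exact ih m hm
    · obtain ⟨hlt, hc, hcm⟩ := ih x hx
      obtain ⟨hd, hdm⟩ := comWord_mem (hL q List.mem_cons_self)
      have hwlt : comWord q < 2 ^ 24 := by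
        have h := List.all_eq_true.mp comPairs_ok q (hL q List.mem_cons_self)
        simp only [Bool.and_eq_true, beq_iff_eq, preserves] at h
        exact Nat.xor_lt_two_pow (lt_of_inCode h.2) (img_lt h.1.1.1 _)
      have e : symmDiff (pts (comWord q)) (pts x) = pts (comWord q ^^^ x) := by
        rw [← pts_mk (symmDiff (pts (comWord q)) _), Co1Inv.mk_symmDiff, mk_pts hwlt, mk_pts hlt]
      refine ⟨Nat.xor_lt_two_pow hwlt hlt, e ▸ symmDiff_mem_supports hd hc, ?_⟩
      have := mul_mem hdm hcm
      rwa [flip_mul', flipC_congr e _ (e ▸ symmDiff_mem_supports hd hc)] at this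

theorem kerFlip_mem {c : Finset GolayPt} (hc : c ∈ code) (h : c ∩ oct = ∅ ∨ c ∩ oct = oct) :
    monoC 1 hc ∈ commutator Cg := by
  have hm := List.all_eq_true.mp comSpan_ok (Golay.mk c) (mem_codeMasks.mpr ((mem_supports_iff _).mp hc))
  have hbit : pts (Golay.mk c &&& 5279) = c ∩ oct := by ext p; simp [Nat.testBit_and, oct]
  have hcase : Golay.mk c &&& 5279 = 0 ∨ Golay.mk c &&& 5279 = 5279 := by
    have hlt : Golay.mk c &&& 5279 < 2 ^ 24 := lt_of_le_of_lt Nat.and_le_left (mk_lt c)
    rcases h with h | h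
    · exact Or.inl (eq_of_pts_eq hlt (by norm_num) (hbit.trans (h.trans (by decide +kernel))))
    · exact Or.inr (eq_of_pts_eq hlt (by norm_num) (hbit.trans (h.trans (by decide +kernel))))
  simp only [Bool.or_eq_true, Bool.not_eq_true', List.contains_iff_mem] at hm
  rcases hm with hm | hm
  · simp only [Bool.or_eq_false_iff, beq_eq_false_iff_ne] at hm
    exact absurd hcase (by tauto)
  · obtain ⟨-, hc', hcm⟩ := span_mem comPairs (fun _ h => h) _ hm
    rwa [flipC_congr (pts_mk c) hc' hc] at hcm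

theorem permC_fix_mem {σ : setStab oct} (hσ : Fixes σ) : permC σ ∈ commutator Cg := by
  obtain ⟨t, ht, hv, e⟩ := fixes_transl hσ
  have h := List.all_eq_true.mp transl_comm t ht
  simp only [List.any_eq_true, Bool.and_eq_true, beq_iff_eq, List.all_eq_true] at h
  obtain ⟨a, -, ⟨hap, hao⟩, b, hb, hab⟩ := h
  obtain ⟨α, hva, ea⟩ := stab_of hap hao
  obtain ⟨β, -, hvb, eb⟩ := exists_fixes hb
  have hσe : σ = α * β * α⁻¹ * β⁻¹ := by
    have : σ * (β * α) = α * β := by
      refine Subtype.ext (Equiv.ext fun p => pidx_injective ?_)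
      simp only [Subgroup.coe_mul, Equiv.Perm.mul_apply, e, ea, eb, pidx_toP hv, pidx_toP hva, pidx_toP hvb]
      exact (hab _ (List.mem_range.mpr (pidx_lt p))).symm
    rw [← this]; group
  rw [hσe, map_mul, map_mul, map_mul, map_inv, map_inv]
  exact Subgroup.commutator_mem_commutator (Subgroup.mem_top _) (Subgroup.mem_top _)

theorem ker_form {h : Cg} (hh : h ∈ rho.ker) : ∃ (σ : setStab oct) (c : Finset GolayPt) (hc : c ∈ code),
    Fixes σ ∧ Avoids c ∧ (h = monoC σ hc ∨ h = negC * monoC σ hc) := by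
  obtain ⟨σ, c, hc, rfl⟩ := monomial_of_fix h (rho_eq_one.mp hh v0)
  obtain ⟨h1, h2⟩ := (rho_monoC_eq_one _ _).mp hh
  by_cases h0 : octO 0 ∈ c
  · refine ⟨σ, cᶜ, compl_mem_supports hc, h1, fun p hp => by simpa using (h2 p hp _ (octO_mem 0)).mpr h0,
      Or.inr ?_⟩
    rw [negC, monoC_mul]
    exact monoC_congr _ _ (one_mul σ).symm (by ext p; simp [mem_symmDiff])
  · exact ⟨σ, c, hc, h1, fun p hp hpc => h0 ((h2 p hp _ (octO_mem 0)).mp hpc), Or.inl rfl⟩

theorem negC_mem_commutator : negC ∈ commutator Cg := kerFlip_mem _ (Or.inr (by simp))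

/-- The centraliser is perfect. -/
theorem commutator_Cg : commutator Cg = ⊤ := by
  refine top_le_iff.mp (NC_eq_top.ge.trans (sup_le le_rfl fun h hh => ?_))
  obtain ⟨σ, c, hc, hσ, ha, e⟩ := ker_form hh
  have hm : monoC σ hc ∈ commutator Cg := by
    rw [monoC_split]
    refine mul_mem (kerFlip_mem hc (Or.inl (eq_empty_iff_forall_notMem.mpr fun p hp => ?_))) (permC_fix_mem hσ)
    exact ha p (mem_inter.mp hp).2 (mem_inter.mp hp).1
  rcases e with rfl | rfl
  · exact hm
  · exact mul_mem negC_mem_commutator hm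

/-! ## The kernel is characteristic -/

theorem negC_comm (h : Cg) : negC * h = h * negC :=
  Subtype.ext (by
    show mono (one_mem M24) univ_mem_code * (h : Co0) = (h : Co0) * mono (one_mem M24) univ_mem_code
    rw [show mono (one_mem M24) univ_mem_code = negOne from
      co0_ext fun v => Subtype.ext (funext fun i => by
        rw [mono_apply, negOne_apply]; simp [signedPerm, show (1 : Equiv.Perm GolayPt).symm i = i from rfl])]
    exact negOne_comm _)

theorem range_rho : rho.range = Omega (ZMod 2) (quadFormPlus 4 (ZMod 2)) := rhoBar_range ▸ range_eq_omega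

theorem map_ker (φ : Cg ≃* Cg) {h : Cg} (hh : h ∈ rho.ker) : φ h ∈ rho.ker := by
  have : IsSimpleGroup rho.range := by
    rw [range_rho]; exact omega_simple
  have : Finite Cg := Nat.finite_of_card_ne_zero (by rw [card_Cg]; norm_num)
  have hN : (rho.ker.map φ.toMonoidHom).Normal := Subgroup.Normal.map inferInstance _ φ.surjective
  set N' := (rho.ker.map φ.toMonoidHom).map rho.rangeRestrict with hN'
  have hN'n : N'.Normal := hN.map _ rho.rangeRestrict_surjective
  rcases hN'n.eq_bot_or_eq_top with e | e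
  · have hm : rho.rangeRestrict (φ h) ∈ N' := Subgroup.mem_map_of_mem _ (Subgroup.mem_map_of_mem φ.toMonoidHom hh)
    rw [e, Subgroup.mem_bot] at hm
    rw [MonoidHom.mem_ker]
    exact congrArg Subtype.val hm
  · exfalso
    have hd : Nat.card N' ∣ Nat.card rho.ker := (Subgroup.card_map_dvd _ _).trans (Subgroup.card_map_dvd _ _)
    rw [e, Subgroup.card_top, Co1Inv.card_range, card_rho_ker] at hd
    exact absurd (Nat.le_of_dvd (by norm_num) hd) (by norm_num)

theorem comm_ker {a b : Cg} (ha : a ∈ rho.ker) (hb : b ∈ rho.ker) : ⁅a, b⁆ = 1 ∨ ⁅a, b⁆ = comC := by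
  have red : ∀ {x : Cg} {y : Cg}, ⁅negC * x, y⁆ = ⁅x, y⁆ ∧ ⁅x, negC * y⁆ = ⁅x, y⁆ := by
    intro x y
    constructor <;> simp only [commutatorElement_def, _root_.mul_inv_rev]
    · have h := negC_comm (x * y * x⁻¹)
      calc negC * x * y * (x⁻¹ * negC⁻¹) * y⁻¹ = (negC * (x * y * x⁻¹)) * negC⁻¹ * y⁻¹ := by group
        _ = x * y * x⁻¹ * y⁻¹ := by rw [h]; group
    · have h := negC_comm x
      calc x * (negC * y) * x⁻¹ * (y⁻¹ * negC⁻¹) = (x * negC) * (y * x⁻¹ * y⁻¹) * negC⁻¹ := by group
        _ = negC * (x * y * x⁻¹ * y⁻¹) * negC⁻¹ := by rw [← h]; group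
        _ = x * y * x⁻¹ * y⁻¹ := by rw [negC_comm]; group
  obtain ⟨σ, c, hc, hσ, hca, ea⟩ := ker_form ha
  obtain ⟨τ, d, hd, hτ, hda, eb⟩ := ker_form hb
  have key : ⁅monoC σ hc, monoC τ hd⁆ = 1 ∨ ⁅monoC σ hc, monoC τ hd⁆ = comC := by
    rw [commutatorElement_def, monoC_comm hσ hτ hc hd, mul_assoc _ (monoC σ hc)⁻¹, mul_assoc,
      ← _root_.mul_inv_rev, mul_inv_cancel, mul_one]
    rcases two_cases (avoids_diff hτ hc hca) (avoids_diff hσ hd hda) with e | e
    · exact Or.inl ((flipC_congr e _ empty_mem_code).trans monoC_one)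
    · exact Or.inr (flipC_congr e _ compl_code)
  rcases ea with rfl | rfl <;> rcases eb with rfl | rfl
  · exact key
  · rw [red.2]; exact key
  · rw [red.1]; exact key
  · rw [red.1, red.2]; exact key

theorem comC_ne_one : comC ≠ 1 := fun h => by
  have := (mono_injective _ _ _ empty_mem_code ((congrArg Subtype.val h).trans flip_empty.symm)).2
  exact absurd this (by decide +kernel)

theorem comC_fixed (φ : Cg ≃* Cg) : φ comC = comC := by
  obtain ⟨t, ht, htm⟩ := List.any_eq_true.mp dis_com
  obtain ⟨m, hm, hx⟩ := List.any_eq_true.mp htm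
  obtain ⟨σ, hσ, hv, e⟩ := exists_fixes ht
  obtain ⟨hm1, hm2⟩ := List.mem_filter.mp hm
  have hmc := mem_codeMasks.mp hm1
  have hcode : pts m ∈ code := (mem_supports_iff _).mpr (by rwa [mk_pts (lt_of_inCode hmc)])
  have had : Avoids (pts m) := fun p hp hpm => by
    have := congrArg (fun n => Nat.testBit n (pidx p)) (beq_iff_eq.mp hm2)
    simp [Nat.testBit_and, mem_pts.mp hp, mem_pts.mp hpm] at this
  have hk1 : monoC 1 hcode ∈ rho.ker :=
    (rho_monoC_eq_one _ _).mpr ⟨fun _ _ => rfl, fun p hp q hq => iff_of_false (had p hp) (had q hq)⟩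
  have hk2 : permC σ ∈ rho.ker :=
    (rho_monoC_eq_one _ empty_mem_code).mpr ⟨hσ, fun p _ q _ => by simp⟩
  have hcom : ⁅monoC 1 hcode, permC σ⁆ = comC := by
    rw [commutatorElement_def, show monoC 1 hcode * permC σ * (monoC 1 hcode)⁻¹ * (permC σ)⁻¹ =
      monoC 1 hcode * (permC σ * monoC 1 hcode * (permC σ)⁻¹)⁻¹ by group, permC_conj,
      inv_eq_of_mul_eq_one_right (b := monoC 1 (smul_mem_code σ.2.1 hcode)) (by
        rw [flip_mul', monoC_congr _ empty_mem_code rfl (symmDiff_self _), monoC_one]), flip_mul']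
    refine flipC_congr (mk_injective ?_) _ compl_code
    rw [Co1Inv.mk_symmDiff, e, mk_smul hv, mk_pts (lt_of_inCode hmc), mask_facts.1]
    exact beq_iff_eq.mp hx
  rcases comm_ker (map_ker φ hk1) (map_ker φ hk2) with h | h
  · rw [← map_commutatorElement, hcom, MulEquiv.map_eq_one_iff] at h
    exact absurd h comC_ne_one
  · rwa [← map_commutatorElement, hcom] at h

theorem negC_mul_comC : negC * comC = octC := by
  rw [negC, comC, flip_mul']
  exact flipC_congr (by ext p; simp [mem_symmDiff]) _ oct_code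

/-! ## The coordinates off the octad -/

/-- The points off the octad. -/
abbrev Off := {p : GolayPt // p ∉ oct}

/-- The matrix on the coordinates off the octad. -/
noncomputable def mat (h : Cg) : Matrix Off Off ℚ :=
  fun p q => ((((h : Co0) • e8 q.1 : leechLattice) : GolayPt → ℤ) p.1 : ℚ) / 8

theorem off_zero (h : Cg) (q : Off) {p : GolayPt} (hp : p ∈ oct) :
    (((h : Co0) • e8 q.1 : leechLattice) : GolayPt → ℤ) p = 0 := by
  have e : g0 • ((h : Co0) • e8 q.1) = (h : Co0) • e8 q.1 := by
    rw [← mul_smul, ← Subgroup.mem_centralizer_singleton_iff.mp h.2, mul_smul, g0_supp_off q.2]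
  have := congrFun (congrArg Subtype.val e) p
  rw [g0_apply, if_pos hp] at this
  omega

theorem mat_monoC (σ : setStab oct) {c : Finset GolayPt} (hc : c ∈ code) (p q : Off) :
    mat (monoC σ hc) p q =
      if (σ : Equiv.Perm GolayPt) q.1 = p.1 then (if p.1 ∈ c then -1 else 1) else 0 := by
  show ((((mono σ.2.1 hc : Co0) • e8 q.1 : leechLattice) : GolayPt → ℤ) p.1 : ℚ) / 8 = _
  rw [mono_apply]
  simp only [signedPerm, e8, Pi.single_apply]
  by_cases h : (σ : Equiv.Perm GolayPt) q.1 = p.1
  · rw [if_pos h, show (σ : Equiv.Perm GolayPt).symm p.1 = q.1 from (Equiv.symm_apply_eq _).mpr h.symm]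
    simp only [if_true]
    split <;> norm_num
  · have h' : (σ : Equiv.Perm GolayPt).symm p.1 ≠ q.1 := fun e => h (by rw [← e, Equiv.apply_symm_apply])
    rw [if_neg h]
    simp [h']

theorem mat_one : mat 1 = 1 := by
  ext p q
  rw [← monoC_one, mat_monoC, Matrix.one_apply]
  simp [Subtype.coe_inj, eq_comm]

theorem mat_mul (a b : Cg) : mat (a * b) = mat a * mat b := by
  ext p q
  have h8 := congrArg (fun v : leechLattice => ((a : Co0) • v : leechLattice)) (eight_smul ((b : Co0) • e8 q.1))
  simp only [smul_zsmul', smul_sum', smul_smul] at h8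
  have hp := congrFun (congrArg Subtype.val h8) p.1
  simp only [AddSubgroup.coe_zsmul, Pi.smul_apply, smul_eq_mul, AddSubgroup.val_finsetSum, Finset.sum_apply] at hp
  rw [← Finset.sum_subset (s₁ := (univ.filter fun i : GolayPt => i ∉ oct)) (subset_univ _)
    (fun i _ hi => by rw [off_zero b q (by simpa using hi), zero_mul]),
    Finset.sum_subtype (p := fun i => i ∉ oct) (univ.filter fun i : GolayPt => i ∉ oct) (by simp)] at hp
  simp only [mat, Matrix.mul_apply, Subgroup.coe_mul]
  have hq : (8 : ℚ) * ((((a : Co0) * (b : Co0)) • e8 q.1 : leechLattice) : GolayPt → ℤ) p.1 =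
      ∑ i : Off, ((((b : Co0) • e8 q.1 : leechLattice) : GolayPt → ℤ) i.1 : ℚ) *
        ((((a : Co0) • e8 i.1 : leechLattice) : GolayPt → ℤ) p.1 : ℚ) := by
    have := congrArg (Int.cast : ℤ → ℚ) hp
    push_cast at this
    exact this
  calc _ = (8 : ℚ) * ((((a : Co0) * (b : Co0)) • e8 q.1 : leechLattice) : GolayPt → ℤ) p.1 / 64 := by ring
    _ = _ := by
      rw [hq, Finset.sum_div]
      exact Finset.sum_congr rfl fun i _ => by ring

theorem mat_negC : mat negC = -1 := by
  ext p q
  rw [negC, mat_monoC, Matrix.neg_apply, Matrix.one_apply]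
  simp only [OneMemClass.coe_one, Equiv.Perm.one_apply, Subtype.coe_inj, Finset.mem_univ, if_true, eq_comm (a := q)]
  split <;> simp

theorem mat_octC : mat octC = 1 := by
  ext p q
  rw [octC, mat_monoC, Matrix.one_apply]
  simp only [OneMemClass.coe_one, Equiv.Perm.one_apply, Subtype.coe_inj, p.2, if_false, eq_comm (a := q)]

theorem mat_comC : mat comC = -1 := by
  ext p q
  rw [comC, mat_monoC, Matrix.neg_apply, Matrix.one_apply]
  simp only [OneMemClass.coe_one, Equiv.Perm.one_apply, Subtype.coe_inj, mem_compl, p.2, not_false_eq_true, if_true,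
    eq_comm (a := q)]
  split <;> simp

/-- The elements fixing the vectors on the octad. -/
def IsLow (h : Cg) : Prop :=
  ∃ (σ : setStab oct) (c : Finset GolayPt) (hc : c ∈ code), Fixes σ ∧ Avoids c ∧ h = monoC σ hc

theorem fixes_one : Fixes (1 : setStab oct) := fun _ _ => rfl

theorem avoids_smul {σ : setStab oct} (hσ : Fixes σ) {c : Finset GolayPt} (hc : Avoids c) :
    Avoids ((σ : Equiv.Perm GolayPt) • c) := fun p hp h => by
  rw [mem_smul_iff, show (σ : Equiv.Perm GolayPt).symm p = p from (Equiv.symm_apply_eq _).mpr (hσ p hp).symm] at h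
  exact hc p hp h

/-- Their subgroup. -/
noncomputable def Low : Subgroup Cg where
  carrier := {h | IsLow h}
  one_mem' := ⟨1, ∅, empty_mem_code, fixes_one, fun _ _ => notMem_empty _, monoC_one.symm⟩
  mul_mem' := by
    rintro _ _ ⟨σ, c, hc, hσ, hca, rfl⟩ ⟨τ, d, hd, hτ, hda, rfl⟩
    refine ⟨σ * τ, _, symmDiff_mem_supports hc (smul_mem_code σ.2.1 hd), fun p hp => ?_, fun p hp h => ?_,
      monoC_mul σ τ hc hd⟩
    · rw [Subgroup.coe_mul, Equiv.Perm.mul_apply, hτ p hp, hσ p hp]
    · exact (mem_symmDiff.mp h).elim (fun h => hca p hp h.1) fun h => avoids_smul hσ hda p hp h.1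
  inv_mem' := by
    rintro _ ⟨σ, c, hc, hσ, hca, rfl⟩
    refine ⟨σ, _, smul_mem_code σ.2.1 hc, hσ, avoids_smul hσ hca, inv_eq_of_mul_eq_one_right ?_⟩
    rw [monoC_mul, ← monoC_one]
    refine monoC_congr _ _ (fixes_sq hσ) ?_
    rw [smul_smul, ← Subgroup.coe_mul, fixes_sq hσ, OneMemClass.coe_one, one_smul, symmDiff_self]
    rfl

theorem low_ker {h : Cg} (hh : h ∈ Low) : h ∈ rho.ker := by
  obtain ⟨σ, c, hc, hσ, hca, rfl⟩ := hh
  exact (rho_monoC_eq_one _ _).mpr ⟨hσ, fun p hp q hq => iff_of_false (hca p hp) (hca q hq)⟩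

theorem low_supp {h : Cg} (hh : h ∈ Low) {v : leechLattice} (hv : Supp v) : (h : Co0) • v = v := by
  obtain ⟨σ, c, hc, hσ, hca, rfl⟩ := hh
  refine Subtype.ext (funext fun p => ?_)
  show ((mono σ.2.1 hc • v : leechLattice) : GolayPt → ℤ) p = _
  rw [mono_apply]
  simp only [signedPerm]
  by_cases hp : p ∈ oct
  · rw [if_neg (hca p hp), show (σ : Equiv.Perm GolayPt).symm p = p from (Equiv.symm_apply_eq _).mpr (hσ p hp).symm]
  · have hp' : (σ : Equiv.Perm GolayPt).symm p ∉ oct := fun h => hp (by
      have := hσ _ h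
      rw [Equiv.apply_symm_apply] at this
      rwa [← this] at h)
    rw [hv p hp, hv _ hp', neg_zero, ite_self]

theorem low_normal : Low.Normal := by
  refine ⟨fun h hh g => ?_⟩
  obtain ⟨σ, c, hc, hσ, hca, e | e⟩ := ker_form ((MonoidHom.normal_ker rho).conj_mem h (low_ker hh) g)
  · exact ⟨σ, c, hc, hσ, hca, e⟩
  · exfalso
    have h1 : ((g * h * g⁻¹ : Cg) : Co0) • e8 (octO 0) = e8 (octO 0) := by
      rw [Subgroup.coe_mul, Subgroup.coe_mul, mul_smul, mul_smul,
        low_supp hh (Supp.smul (e8_supp 0) g⁻¹), smul_smul, ← Subgroup.coe_mul, mul_inv_cancel,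
        OneMemClass.coe_one, one_smul]
    rw [e, Subgroup.coe_mul, mul_smul, low_supp ⟨σ, c, hc, hσ, hca, rfl⟩ (e8_supp 0)] at h1
    have := congrFun (congrArg Subtype.val h1) (octO 0)
    simp only [negC, monoC, mono_apply, signedPerm, Finset.mem_univ, if_true, e8, OneMemClass.coe_one,
      show (1 : Equiv.Perm GolayPt).symm (octO 0) = octO 0 from rfl, Pi.single_eq_same] at this
    omega

theorem trace_zero {h : Cg} (hh : h ∈ Low) (h1 : h ≠ 1) (h2 : h ≠ comC) : (mat h).trace = 0 := by
  obtain ⟨σ, c, hc, hσ, hca, rfl⟩ := hh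
  simp only [Matrix.trace, Matrix.diag, mat_monoC]
  by_cases hs : σ = 1
  · subst hs
    have hw := List.all_eq_true.mp dis_weight _ (avoids_mask hc hca)
    simp only [Bool.or_eq_true, beq_iff_eq] at hw
    rcases hw with (hw | hw) | hw
    · exact absurd ((flipC_congr (mk_injective (hw.trans mask_facts.2.1.symm)) hc empty_mem_code).trans monoC_one) h1
    · exact absurd (flipC_congr (mk_injective (hw.trans mask_facts.1.symm)) hc compl_code) h2
    · simp only [OneMemClass.coe_one, Equiv.Perm.one_apply, if_true]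
      rw [← Finset.sum_subtype (octᶜ) (fun p => mem_compl) (fun p => if p ∈ c then (-1 : ℚ) else 1)]
      have h8 : c.card = 8 := by rw [← pts_mk c, ← pc_eq_card]; exact hw
      have h16 : (octᶜ).card = 16 := by
        rw [card_compl, oct_octad.2, Fintype.card_option, ZMod.card]
      rw [show ∑ p ∈ octᶜ, (if p ∈ c then (-1 : ℚ) else 1) = ∑ p ∈ octᶜ, ((1 : ℚ) - 2 * if p ∈ c then 1 else 0) from
        sum_congr rfl fun p _ => by split <;> norm_num, sum_sub_distrib, sum_const, ← mul_sum, sum_boole,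
        filter_mem_eq_inter, inter_eq_right.mpr fun p hp => mem_compl.mpr fun ho => hca p ho hp, h8, h16]
      norm_num
  · refine sum_eq_zero fun p _ => if_neg fun hp => hs ?_
    obtain ⟨t, ht, hv, e⟩ := fixes_transl hσ
    have h := List.all_eq_true.mp transl_fpf t ht
    simp only [Bool.or_eq_true, List.all_eq_true, beq_iff_eq, bne_iff_ne] at h
    rcases h with h | h
    · refine Subtype.ext (Equiv.ext fun r => pidx_injective ?_)
      rw [e, pidx_toP hv]
      exact h _ (List.mem_range.mpr (pidx_lt r))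
    · rcases h _ (List.mem_range.mpr (pidx_lt p.1)) with h | h
      · exact absurd (mem_pts.mpr h) p.2
      · exact absurd (by rw [← pidx_toP hv, ← e, hp]) h

theorem scalar_of_comm {X : Matrix Off Off ℚ} (hX : ∀ r ∈ Low, mat r * X = X * mat r) : ∃ a : ℚ, X = a • 1 := by
  have hdiag : ∀ p q : Off, p ≠ q → X p q = 0 := by
    intro p q hpq
    obtain ⟨m, hm, hne⟩ := List.any_eq_true.mp (dis_separate p.1 q.1 p.2 q.2 fun e => hpq (Subtype.ext e))
    obtain ⟨hm1, hm2⟩ := List.mem_filter.mp hm
    have hmc := mem_codeMasks.mp hm1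
    have hcode : pts m ∈ code := (mem_supports_iff _).mpr (by rwa [mk_pts (lt_of_inCode hmc)])
    have had : Avoids (pts m) := fun r hr hrm => by
      have := congrArg (fun n => Nat.testBit n (pidx r)) (beq_iff_eq.mp hm2)
      simp [Nat.testBit_and, mem_pts.mp hr, mem_pts.mp hrm] at this
    have hd : mat (monoC 1 hcode) = Matrix.diagonal fun r : Off => if r.1 ∈ pts m then (-1 : ℚ) else 1 := by
      ext r s
      rw [mat_monoC, Matrix.diagonal_apply]
      simp only [OneMemClass.coe_one, Equiv.Perm.one_apply, Subtype.coe_inj, eq_comm (a := s)]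
    have h := congrFun (congrFun (hX _ ⟨1, _, hcode, fixes_one, had, rfl⟩) p) q
    rw [hd, Matrix.diagonal_mul, Matrix.mul_diagonal] at h
    simp only [mem_pts] at h
    rw [bne_iff_ne] at hne
    by_cases h1 : m.testBit (pidx p.1) <;> by_cases h2 : m.testBit (pidx q.1) <;> simp [h1, h2] at h hne ⊢ <;> linarith
  have hb : b7 ∉ oct := oct0_std.2.2.2
  refine ⟨X ⟨b7, hb⟩ ⟨b7, hb⟩, ?_⟩
  ext p q
  rw [Matrix.smul_apply, Matrix.one_apply]
  by_cases hpq : p = q
  · subst hpq
    obtain ⟨t, ht, htp⟩ := exists_transl (c := p.1) p.2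
    obtain ⟨σ, hσ, -, e⟩ := exists_fixes ht
    have h := congrFun (congrFun (hX (permC σ) ⟨σ, ∅, empty_mem_code, hσ, fun _ _ => notMem_empty _, rfl⟩) p)
      ⟨b7, hb⟩
    rw [Matrix.mul_apply, Matrix.mul_apply] at h
    simp only [permC, MonoidHom.mk'_apply, mat_monoC, notMem_empty, if_false] at h
    have hσb : (σ : Equiv.Perm GolayPt) b7 = p.1 := by rw [e, htp]
    rw [Finset.sum_eq_single ⟨b7, hb⟩ (fun r _ hr => by
        rw [if_neg fun h' => hr (Subtype.ext ((σ : Equiv.Perm GolayPt).injective (h'.trans hσb.symm))), zero_mul])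
      (by simp), if_pos hσb, one_mul, Finset.sum_eq_single p (fun r _ hr => by
        rw [hdiag p r (Ne.symm hr), zero_mul]) (by simp), if_pos hσb, mul_one] at h
    rw [if_pos rfl, smul_eq_mul, mul_one, h]
  · rw [if_neg hpq, smul_zero, hdiag p q hpq]

/-- No automorphism of the centraliser exchanges the sign change with the negation. -/
theorem no_swap_oct (φ : Cg ≃* Cg) (h1 : φ negC = octC) (h2 : φ octC = negC) : False := by
  classical
  have : Finite Cg := Nat.finite_of_card_ne_zero (by rw [card_Cg]; norm_num)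
  have : Fintype Low := Fintype.ofFinite _
  have he := comC_fixed φ
  have hcomLow : comC ∈ Low := ⟨1, _, compl_code, fixes_one, fun p hp h => (mem_compl.mp h) hp, rfl⟩
  have htr : ∀ r : Low, (mat (φ (r : Cg))).trace = (mat (r : Cg)).trace := by
    rintro ⟨r, hr⟩
    show (mat (φ r)).trace = (mat r).trace
    by_cases e1 : r = 1
    · rw [e1, map_one]
    by_cases e2 : r = comC
    · rw [e2, he]
    rw [trace_zero hr e1 e2]
    obtain ⟨σ, c, hc, hσ, hca, e | e⟩ := ker_form (map_ker φ (low_ker hr))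
    · rw [e]
      refine trace_zero ⟨σ, c, hc, hσ, hca, rfl⟩ (fun h => e1 ?_) (fun h => e2 ?_)
      · exact φ.injective (by rw [e, h, map_one])
      · exact φ.injective (by rw [e, h, he])
    · have hn : negC ∉ Low := fun h => by
        have := low_supp h (e8_supp 0)
        have := congrFun (congrArg Subtype.val this) (octO 0)
        simp only [negC, monoC, mono_apply, signedPerm, Finset.mem_univ, if_true, e8, OneMemClass.coe_one,
          show (1 : Equiv.Perm GolayPt).symm (octO 0) = octO 0 from rfl, Pi.single_eq_same] at this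
        omega
      rw [e, mat_mul, mat_negC, neg_one_mul, Matrix.trace_neg, neg_eq_zero]
      refine trace_zero ⟨σ, c, hc, hσ, hca, rfl⟩ (fun h => ?_) (fun h => ?_)
      · rw [h, mul_one, ← h2] at e
        obtain rfl : r = octC := φ.injective e
        exact hn (by
          have := mul_mem hr hcomLow
          rwa [← negC_mul_comC, mul_assoc, comC, flip_mul', flipC_congr (symmDiff_self _) _ empty_mem_code,
            monoC_one, mul_one] at this)
      · rw [h, negC_mul_comC, ← h1] at e
        exact hn (φ.injective e ▸ hr)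
  let ρ' : Cg → Matrix Off Off ℚ := fun g => mat (φ g)
  have hm' : ∀ a b, ρ' (a * b) = ρ' a * ρ' b := fun a b => by simp only [ρ', map_mul, mat_mul]
  let T : Matrix Off Off ℚ → Matrix Off Off ℚ := fun X => ∑ r : Low, ρ' r * X * mat (r⁻¹ : Low)
  have hT : ∀ X (q : Low), ρ' q * T X = T X * mat q := fun X q => by
    simp only [T, Finset.mul_sum, Finset.sum_mul]
    refine Fintype.sum_equiv (Equiv.mulLeft q) _ _ fun r => ?_
    simp only [Equiv.coe_mulLeft, Subgroup.coe_mul, _root_.mul_inv_rev, hm', mul_assoc]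
    rw [← mat_mul]
    simp
  obtain ⟨X, hX⟩ : ∃ X, T X ≠ 0 := by
    by_contra hall
    push Not at hall
    have hsum : ∀ a b, ∑ r : Low, ρ' r a a * mat (r⁻¹ : Low) b b = 0 := fun a b => by
      have := congrFun (congrFun (hall (Matrix.single a b 1)) a) b
      simp only [T, Matrix.sum_apply, Matrix.zero_apply] at this
      rw [← this]
      refine sum_congr rfl fun r _ => ?_
      rw [Matrix.mul_assoc, Matrix.mul_apply, Finset.sum_eq_single a (fun c _ hc => by
        rw [Matrix.single_mul_apply_of_ne (h := hc), mul_zero]) (by simp), Matrix.single_mul_apply_same, one_mul]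
    have htot : ∑ r : Low, (mat (r : Cg)).trace * (mat ((r⁻¹ : Low) : Cg)).trace = 0 := by
      rw [show ∑ r : Low, (mat (r : Cg)).trace * (mat ((r⁻¹ : Low) : Cg)).trace =
        ∑ a, ∑ b, ∑ r : Low, ρ' r a a * mat (r⁻¹ : Low) b b from ?_]
      · exact sum_eq_zero fun a _ => sum_eq_zero fun b _ => hsum a b
      rw [show ∑ r : Low, (mat (r : Cg)).trace * (mat ((r⁻¹ : Low) : Cg)).trace =
        ∑ r : Low, (ρ' r).trace * (mat ((r⁻¹ : Low) : Cg)).trace from sum_congr rfl fun r _ => by rw [← htr r]]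
      simp only [Matrix.trace, Matrix.diag, Finset.sum_mul_sum]
      rw [Finset.sum_comm]
      exact sum_congr rfl fun a _ => Finset.sum_comm
    have hpos : ∀ r : Low, 0 ≤ (mat (r : Cg)).trace * (mat ((r⁻¹ : Low) : Cg)).trace := fun r => by
      by_cases e1 : (r : Cg) = 1
      · rw [Subgroup.coe_inv, e1, inv_one, mat_one]; exact mul_self_nonneg _
      by_cases e2 : (r : Cg) = comC
      · have : ((r⁻¹ : Low) : Cg) = comC := by
          rw [Subgroup.coe_inv, e2]
          refine inv_eq_of_mul_eq_one_right ?_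
          rw [comC, flip_mul', flipC_congr (symmDiff_self _) _ empty_mem_code, monoC_one]
        rw [e2, this]
        exact mul_self_nonneg _
      · simp [trace_zero r.2 e1 e2]
    have := (Finset.sum_eq_zero_iff_of_nonneg fun r _ => hpos r).mp htot 1 (mem_univ _)
    have h16 : Fintype.card Off = 16 := by rw [← Nat.card_eq_fintype_card, card_not_mem_octad oct_octad]
    rw [inv_one, OneMemClass.coe_one, mat_one, Matrix.trace_one, h16] at this
    norm_num at this
  obtain ⟨a₀, b₀, hab⟩ : ∃ a b, T X a b ≠ 0 := by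
    by_contra hall
    push Not at hall
    exact hX (by ext a b; exact hall a b)
  let S : Matrix Off Off ℚ := ∑ r : Low, mat (r : Cg) * Matrix.single b₀ a₀ 1 * ρ' (r⁻¹ : Low)
  have hS : ∀ q : Low, mat q * S = S * ρ' q := fun q => by
    simp only [S, Finset.mul_sum, Finset.sum_mul]
    refine Fintype.sum_equiv (Equiv.mulLeft q) _ _ fun r => ?_
    simp only [Equiv.coe_mulLeft, Subgroup.coe_mul, _root_.mul_inv_rev, mat_mul, mul_assoc]
    rw [← hm']
    simp
  obtain ⟨a, ha⟩ := scalar_of_comm (X := S * T X) fun r hr => by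
    rw [← mul_assoc, hS ⟨r, hr⟩, mul_assoc, hT X ⟨r, hr⟩, mul_assoc]
  have hane : a ≠ 0 := fun h0 => by
    have htr0 : (S * T X).trace = 0 := by rw [ha, h0, zero_smul, Matrix.trace_zero]
    have hst : (S * T X).trace = (Fintype.card Low : ℚ) * T X a₀ b₀ := by
      rw [Finset.sum_mul, Matrix.trace_sum]
      rw [sum_congr rfl (g := fun _ => T X a₀ b₀) fun r _ => by
        rw [mul_assoc, mul_assoc, Matrix.trace_mul_comm, mul_assoc, mul_assoc, ← hT, ← mul_assoc (ρ' _), ← hm',
          ← Subgroup.coe_mul, inv_mul_cancel, show ρ' ((1 : Low) : Cg) = 1 by simp [ρ', mat_one], one_mul,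
          Matrix.trace_single_mul, one_smul]]
      simp
    rw [hst] at htr0
    exact mul_ne_zero (Nat.cast_ne_zero.mpr Fintype.card_ne_zero) hab htr0
  set U := a⁻¹ • S
  have hUT : U * T X = 1 := by rw [Matrix.smul_mul, ha, smul_smul, inv_mul_cancel₀ hane, one_smul]
  have hTU : T X * U = 1 := mul_eq_one_comm.mp hUT
  have hUq : ∀ q : Low, mat q * U = U * ρ' q := fun q => by rw [Matrix.mul_smul, hS, Matrix.smul_mul]
  have hU : ∀ g : Cg, ∃ c : ℚ, U * ρ' g * T X = c • mat g := by
    intro g
    obtain ⟨c, hc⟩ := scalar_of_comm (X := U * ρ' g * T X * mat g⁻¹) fun r hr => by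
      have hr' : g⁻¹ * r * g ∈ Low := by simpa using low_normal.conj_mem r hr g⁻¹
      have h1 : mat g⁻¹ * mat r = mat (g⁻¹ * r * g) * mat g⁻¹ := by
        rw [← mat_mul, ← mat_mul]; congr 1; group
      calc mat r * (U * ρ' g * T X * mat g⁻¹) = (mat r * U) * ρ' g * T X * mat g⁻¹ := by
            simp only [mul_assoc]
        _ = U * (ρ' r * ρ' g) * T X * mat g⁻¹ := by rw [hUq ⟨r, hr⟩]; simp only [mul_assoc]
        _ = U * (ρ' g * ρ' (g⁻¹ * r * g)) * T X * mat g⁻¹ := by
            rw [← hm', ← hm']; congr 3; group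
        _ = U * ρ' g * (ρ' (g⁻¹ * r * g) * T X) * mat g⁻¹ := by simp only [mul_assoc]
        _ = U * ρ' g * T X * (mat (g⁻¹ * r * g) * mat g⁻¹) := by
            rw [hT X ⟨_, hr'⟩]; simp only [mul_assoc]
        _ = _ := by rw [← h1]; simp only [mul_assoc]
    refine ⟨c, ?_⟩
    have := congrArg (fun M => M * mat g) hc
    simpa only [mul_assoc, ← mat_mul, inv_mul_cancel, mat_one, mul_one, Matrix.smul_mul, one_mul] using this
  choose c hc using hU
  have : Nonempty Off := ⟨⟨b7, oct0_std.2.2.2⟩⟩
  have hmat : ∀ g : Cg, mat g ≠ 0 := fun g h => by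
    have := mat_mul g g⁻¹
    rw [mul_inv_cancel, mat_one, h, zero_mul] at this
    exact one_ne_zero this
  have hc1 : c 1 = 1 := by
    have := hc 1
    simp only [ρ', map_one, mat_one, mul_one, hUT] at this
    exact smul_left_injective ℚ (one_ne_zero (α := Matrix Off Off ℚ)) (this.symm.trans (one_smul ℚ _).symm)
  have hcm : ∀ g h, c (g * h) = c g * c h := fun g h => by
    refine smul_left_injective ℚ (hmat (g * h)) ?_
    show c (g * h) • mat (g * h) = (c g * c h) • mat (g * h)
    rw [← hc, hm', mat_mul g h, ← smul_mul_smul_comm, ← hc, ← hc]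
    calc U * (ρ' g * ρ' h) * T X = U * ρ' g * 1 * ρ' h * T X := by simp only [mul_one, mul_assoc]
      _ = _ := by rw [← hTU]; simp only [mul_assoc]
  let C : Cg →* ℚ := { toFun := c, map_one' := hc1, map_mul' := hcm }
  have hker : C.toHomUnits.ker = ⊤ := top_le_iff.mp (commutator_Cg ▸ Abelianization.commutator_subset_ker _)
  have hneg : c negC = 1 := by
    have h : negC ∈ C.toHomUnits.ker := hker ▸ Subgroup.mem_top _
    have := congrArg Units.val (MonoidHom.mem_ker.mp h)
    simpa [C] using this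
  have := hc negC
  simp only [ρ', h1, mat_octC, mul_one, hUT, hneg, mat_negC, one_smul] at this
  have h00 := congrFun (congrFun this ⟨b7, oct0_std.2.2.2⟩) ⟨b7, oct0_std.2.2.2⟩
  norm_num at h00

end Cfsg.Lib.Leech.Co0Std
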