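import Cfsg.Agent.Leech.Co0Std.OctCent
import Cfsg.Agent.Leech.Co0Std.DodCent

/-!
Centralisers of the non-central involutions of the lattice group: they are perfect, and no isomorphism between
two of them carries the first involution to the negation and the negation to the second.
-/

set_option autoImplicit false

namespace Cfsg.Lib.Leech.Co0Std

open Cfsg Cfsg.Lib.Golay Finset Subgroup
open Cfsg.Lib.Leech.Co1Inv (g0 oct oct_code Cg negC monoC mono_mul mono_congr)

/-- Conjugation between centralisers. -/
noncomputable def centConj (h x : Co0) :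
    centralizer ({x} : Set Co0) ≃* centralizer ({h * x * h⁻¹} : Set Co0) :=
  ((centralizer ({x} : Set Co0)).equivMapOfInjective (MulAut.conj h).toMonoidHom (MulAut.conj h).injective).trans
    (MulEquiv.subgroupCongr (by
      ext y
      simp only [Subgroup.mem_map, mem_centralizer_singleton_iff, MulEquiv.coe_toMonoidHom, MulAut.conj_apply]
      constructor
      · rintro ⟨a, ha, rfl⟩
        calc h * a * h⁻¹ * (h * x * h⁻¹) = h * (a * x) * h⁻¹ := by group
          _ = h * (x * a) * h⁻¹ := by rw [ha]
          _ = _ := by group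
      · intro hy
        refine ⟨h⁻¹ * y * h, ?_, by group⟩
        calc h⁻¹ * y * h * x = h⁻¹ * (y * (h * x * h⁻¹)) * h := by group
          _ = h⁻¹ * ((h * x * h⁻¹) * y) * h := by rw [hy]
          _ = _ := by group))

theorem centConj_apply (h x : Co0) (a : centralizer ({x} : Set Co0)) :
    ((centConj h x a : centralizer ({h * x * h⁻¹} : Set Co0)) : Co0) = h * a * h⁻¹ := rfl

theorem negOne_mem (x : Co0) : negOne ∈ centralizer ({x} : Set Co0) :=
  mem_centralizer_singleton_iff.mpr (negOne_comm x)

theorem self_mem (x : Co0) : x ∈ centralizer ({x} : Set Co0) := mem_centralizer_singleton_iff.mpr rfl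

theorem centralizer_g0_neg : centralizer ({g0 * negOne} : Set Co0) = centralizer ({g0} : Set Co0) := by
  ext y
  simp only [mem_centralizer_singleton_iff]
  rw [mul_assoc g0, negOne_comm y, ← mul_assoc, ← mul_assoc]
  exact ⟨mul_right_cancel, fun h => by rw [h]⟩

theorem perfect_transfer {S T : Subgroup Co0} (e : S ≃* T) (h : commutator S = ⊤) : commutator T = ⊤ := by
  have := congrArg (Subgroup.map e.toMonoidHom) h
  rw [map_top_of_surjective _ e.surjective, commutator_def, map_commutator,
    map_top_of_surjective _ e.surjective] at this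
  exact this

theorem classes' {T : Co0} (h2 : T * T = 1) (h1 : T ≠ 1) (hn : T ≠ negOne) :
    ∃ (h S : Co0), (S = g0 ∨ S = g0 * negOne ∨ S = gD) ∧ h * S * h⁻¹ = T := by
  rcases invol_classes h2 with e | e | e | e | e
  · exact absurd e h1
  · exact absurd e hn
  all_goals obtain ⟨h, hh⟩ := isConj_iff.mp e
  · exact ⟨h, g0, Or.inl rfl, hh⟩
  · exact ⟨h, g0 * negOne, Or.inr (Or.inl rfl), hh⟩
  · exact ⟨h, gD, Or.inr (Or.inr rfl), hh⟩

/-- The centraliser of a non-central involution is perfect. -/
theorem perfect_cent {T : Co0} (h2 : T * T = 1) (h1 : T ≠ 1) (hn : T ≠ negOne) :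
    commutator (centralizer ({T} : Set Co0)) = ⊤ := by
  obtain ⟨h, S, hS, rfl⟩ := classes' h2 h1 hn
  refine perfect_transfer (centConj h S) ?_
  rcases hS with rfl | rfl | rfl
  · exact commutator_Cg
  · exact perfect_transfer (MulEquiv.subgroupCongr centralizer_g0_neg.symm) commutator_Cg
  · exact commutator_CD

theorem coe_negC : (negC : Co0) = negOne := flip_univ univ_mem_code

theorem coe_comC : (comC : Co0) = g0 * negOne := g0_neg.symm

theorem card_ne : Nat.card Cg ≠ Nat.card CD := by
  rw [Co1Inv.card_Cg, card_CD]; norm_num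

/-- An exchanging isomorphism between the centralisers of two standard involutions is impossible. -/
theorem no_iso_std {T U : Co0} (hT : T = g0 ∨ T = g0 * negOne ∨ T = gD) (hU : U = g0 ∨ U = g0 * negOne ∨ U = gD)
    (φ : centralizer ({T} : Set Co0) ≃* centralizer ({U} : Set Co0))
    (h1 : (φ ⟨T, self_mem T⟩ : Co0) = negOne) (h2 : (φ ⟨negOne, negOne_mem T⟩ : Co0) = U) : False := by
  have octCase : ∀ {T U : Co0}, (T = g0 ∨ T = g0 * negOne) → (U = g0 ∨ U = g0 * negOne) →
      ∀ φ : centralizer ({T} : Set Co0) ≃* centralizer ({U} : Set Co0),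
      (φ ⟨T, self_mem T⟩ : Co0) = negOne → (φ ⟨negOne, negOne_mem T⟩ : Co0) = U → False := by
    intro T U hT hU φ h1 h2
    have hTC : centralizer ({T} : Set Co0) = Cg := by
      rcases hT with rfl | rfl
      exacts [rfl, centralizer_g0_neg]
    have hUC : centralizer ({U} : Set Co0) = Cg := by
      rcases hU with rfl | rfl
      exacts [rfl, centralizer_g0_neg]
    set ψ : Cg ≃* Cg := ((MulEquiv.subgroupCongr hTC.symm).trans φ).trans (MulEquiv.subgroupCongr hUC) with hψ
    have key : ∀ (x : Cg) (y : centralizer ({T} : Set Co0)), (x : Co0) = y → (ψ x : Co0) = φ y := by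
      intro x y hxy
      have : MulEquiv.subgroupCongr hTC.symm x = y := Subtype.ext hxy
      simp only [hψ, MulEquiv.trans_apply, this]
      rfl
    have hn : ψ negC = ⟨U, hUC ▸ self_mem U⟩ := Subtype.ext ((key negC ⟨negOne, negOne_mem T⟩ coe_negC).trans h2)
    have hTψ : ψ ⟨T, hTC ▸ self_mem T⟩ = negC :=
      Subtype.ext (((key _ ⟨T, self_mem T⟩ rfl).trans h1).trans coe_negC.symm)
    have hcn : comC ≠ negC := fun h => by
      have e : (comC : Co0) = negC := congrArg Subtype.val h
      rw [coe_comC, coe_negC] at e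
      exact Co1Inv.g0_ne.1 (mul_right_cancel (e.trans (one_mul negOne).symm))
    rcases hT with rfl | rfl
    · rcases hU with rfl | rfl
      · exact no_swap_oct ψ hn hTψ
      · rw [show (⟨g0 * negOne, hUC ▸ self_mem _⟩ : Cg) = comC from Subtype.ext coe_comC.symm] at hn
        exact hcn (ψ.injective ((comC_fixed ψ).trans hn.symm))
    · rw [show (⟨g0 * negOne, hTC ▸ self_mem _⟩ : Cg) = comC from Subtype.ext coe_comC.symm, comC_fixed ψ] at hTψ
      exact hcn hTψ
  have cg : ∀ {T : Co0}, (T = g0 ∨ T = g0 * negOne) → Nat.card (centralizer ({T} : Set Co0)) = Nat.card Cg := by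
    rintro T (rfl | rfl)
    · rfl
    · exact Nat.card_congr (MulEquiv.subgroupCongr centralizer_g0_neg).toEquiv
  rcases hT with hT | hT | hT <;> rcases hU with hU | hU | hU
  all_goals
    first
    | exact octCase (Or.inl hT) (Or.inl hU) φ h1 h2
    | exact octCase (Or.inl hT) (Or.inr hU) φ h1 h2
    | exact octCase (Or.inr hT) (Or.inl hU) φ h1 h2
    | exact octCase (Or.inr hT) (Or.inr hU) φ h1 h2
    | exact card_ne ((cg (Or.inl hT)).symm.trans ((Nat.card_congr φ.toEquiv).trans (by rw [hU])))
    | exact card_ne ((cg (Or.inr hT)).symm.trans ((Nat.card_congr φ.toEquiv).trans (by rw [hU])))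
    | exact card_ne ((cg (Or.inl hU)).symm.trans ((Nat.card_congr φ.toEquiv).symm.trans (by rw [hT])))
    | exact card_ne ((cg (Or.inr hU)).symm.trans ((Nat.card_congr φ.toEquiv).symm.trans (by rw [hT])))
    | skip
  subst hT hU
  refine no_swap_dod φ (Subtype.ext ?_) (Subtype.ext ?_)
  · rw [show monoD 1 dod_code = ⟨gD, self_mem gD⟩ from Subtype.ext rfl]
    exact h1.trans (flip_univ univ_mem_code).symm
  · rw [show monoD 1 univ_mem_code = ⟨negOne, negOne_mem gD⟩ from Subtype.ext (flip_univ univ_mem_code)]
    exact h2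

/-- An exchanging isomorphism between centralisers of non-central involutions is impossible. -/
theorem no_iso {T U : Co0} (hT : T * T = 1) (hT1 : T ≠ 1) (hTn : T ≠ negOne) (hU : U * U = 1) (hU1 : U ≠ 1)
    (hUn : U ≠ negOne) (φ : centralizer ({T} : Set Co0) ≃* centralizer ({U} : Set Co0))
    (h1 : (φ ⟨T, self_mem T⟩ : Co0) = negOne) (h2 : (φ ⟨negOne, negOne_mem T⟩ : Co0) = U) : False := by
  obtain ⟨a, S, hS, rfl⟩ := classes' hT hT1 hTn
  obtain ⟨b, R, hR, rfl⟩ := classes' hU hU1 hUn
  have hfix : ∀ g : Co0, g * negOne * g⁻¹ = negOne := fun g => by rw [← negOne_comm, mul_inv_cancel_right]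
  set ψ := ((centConj a S).trans φ).trans (centConj b R).symm with hψ
  have key : ∀ x, ((centConj b R (ψ x) : centralizer ({b * R * b⁻¹} : Set Co0)) : Co0) = φ (centConj a S x) := by
    intro x; simp [hψ]
  refine no_iso_std hS hR ψ ?_ ?_
  · have e := key ⟨S, self_mem S⟩
    rw [show centConj a S ⟨S, self_mem S⟩ = ⟨a * S * a⁻¹, self_mem _⟩ from Subtype.ext (centConj_apply ..), h1,
      centConj_apply] at e
    exact (mul_left_cancel (mul_right_cancel (e.trans (hfix b).symm)))
  · have e := key ⟨negOne, negOne_mem S⟩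
    rw [show centConj a S ⟨negOne, negOne_mem S⟩ = ⟨negOne, negOne_mem _⟩ from
      Subtype.ext ((centConj_apply ..).trans (hfix a)), h2, centConj_apply] at e
    exact mul_left_cancel (mul_right_cancel e)

end Cfsg.Lib.Leech.Co0Std
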